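import Mathlib
import Cfsg.Agent.Lib.Chev.Cov.Data
import Cfsg.Agent.Lib.Chev.Simple
import Cfsg.Prelude.Def_Classical
import Cfsg.Agent.Lib.Classical.SLTwo

/-!
From a representation of a Steinberg group onto a group between the commutator subgroup and the whole
to the isomorphism of central quotients.
-/

set_option autoImplicit false

namespace Cfsg.Agent.Lib.Classical.RootModel

open Cfsg.Lie

/-- The Steinberg group is perfect when the group of the first two relator families is. -/
theorem st_perfect_of_cover {K : Type*} [Field K] (D : ChevalleyDatum)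
    (h : commutator (D.SteinbergCover K) = ⊤) : commutator (D.SteinbergGroup K) = ⊤ := by
  let g : Fin D.nroots × K → D.SteinbergGroup K := fun p => PresentedGroup.of p
  have hlift : ∀ x, FreeGroup.lift g x = PresentedGroup.mk (D.steinbergRels K) x := fun x => by
    have : FreeGroup.lift g = PresentedGroup.mk (D.steinbergRels K) := FreeGroup.ext_hom _ _ fun p => by
      simp [g, PresentedGroup.of]
    rw [this]
  have hrel : ∀ x ∈ D.steinbergRelsAB K, FreeGroup.lift g x = 1 := fun x hx => by
    rw [hlift]
    exact PresentedGroup.one_of_mem (Or.inl hx)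
  have hsur : Function.Surjective (PresentedGroup.toGroup hrel) := by
    rw [← MonoidHom.range_eq_top, eq_top_iff, ← PresentedGroup.closure_range_of, Subgroup.closure_le]
    rintro _ ⟨p, rfl⟩
    exact ⟨PresentedGroup.of p, PresentedGroup.toGroup.of hrel⟩
  have h2 := congrArg (Subgroup.map (PresentedGroup.toGroup hrel)) h
  rwa [commutator_def, Subgroup.map_commutator, Subgroup.map_top_of_surjective _ hsur] at h2

/-- A representation of a central extension of a simple group whose image contains the commutator subgroup. -/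
theorem exists_equiv_of_hom {G S L : Type*} [Group G] [Group S] [Group L] (φ : S →* G)
    (hS : commutator S = ⊤) (hle : commutator G ≤ φ.range) (hne : φ.range ≠ ⊥)
    (θ : S →* L) (hθ : Function.Surjective θ) (hker : θ.ker = Subgroup.center S) [IsSimpleGroup L] :
    Nonempty (L ≃* ↥(commutator G) ⧸ Subgroup.center ↥(commutator G)) := by
  have hrange : φ.range = commutator G := by
    refine le_antisymm ?_ hle
    rw [MonoidHom.range_eq_map, ← hS, commutator_def, commutator_def, Subgroup.map_commutator]
    exact Subgroup.commutator_mono le_top le_top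
  let φ' : S →* ↥(commutator G) :=
    (MulEquiv.subgroupCongr hrange).toMonoidHom.comp φ.rangeRestrict
  have hφ' : Function.Surjective φ' :=
    (MulEquiv.subgroupCongr hrange).surjective.comp φ.rangeRestrict_surjective
  let ψ : S →* ↥(commutator G) ⧸ Subgroup.center ↥(commutator G) := (QuotientGroup.mk' _).comp φ'
  have hψ : Function.Surjective ψ := (QuotientGroup.mk'_surjective _).comp hφ'
  have hN : (ψ.ker.map θ).Normal := Subgroup.Normal.map inferInstance θ hθ
  have hcen : Subgroup.center S ≤ ψ.ker := by
    intro z hz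
    rw [MonoidHom.mem_ker]
    refine (QuotientGroup.eq_one_iff _).2 (Subgroup.mem_center_iff.2 fun y => ?_)
    obtain ⟨x, rfl⟩ := hφ' y
    rw [← map_mul, ← map_mul, Subgroup.mem_center_iff.1 hz x]
  rcases hN.eq_bot_or_eq_top with h | h
  · have hk : ψ.ker = θ.ker := by
      refine le_antisymm ?_ (hker ▸ hcen)
      intro x hx
      exact Subgroup.mem_bot.1 (h ▸ Subgroup.mem_map_of_mem θ hx)
    exact ⟨(QuotientGroup.quotientKerEquivOfSurjective θ hθ).symm.trans
      ((QuotientGroup.quotientMulEquivOfEq hk.symm).trans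
        (QuotientGroup.quotientKerEquivOfSurjective ψ hψ))⟩
  · exfalso
    have htop : ψ.ker ⊔ Subgroup.center S = ⊤ := by
      rw [← hker, ← Subgroup.comap_map_eq, h, Subgroup.comap_top]
    have hψk : ψ.ker = ⊤ := by
      rw [← htop, sup_eq_left.2 hcen]
    have hcen' : ∀ y : ↥(commutator G), y ∈ Subgroup.center ↥(commutator G) := by
      intro y
      obtain ⟨x, rfl⟩ := hφ' y
      exact (QuotientGroup.eq_one_iff _).1 (MonoidHom.mem_ker.1 (hψk ▸ Subgroup.mem_top x))
    have hbot : φ'.range = ⊥ := by
      rw [MonoidHom.range_eq_map, show (⊤ : Subgroup S) = ⁅(⊤ : Subgroup S), ⊤⁆ from hS.symm,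
        Subgroup.map_commutator, Subgroup.commutator_eq_bot_iff_le_centralizer]
      intro y _
      rw [Subgroup.mem_centralizer_iff]
      exact fun x _ => Subgroup.mem_center_iff.1 (hcen' y) x
    refine hne ((Subgroup.eq_bot_iff_forall _).2 ?_)
    rintro _ ⟨x, rfl⟩
    have : φ' x = 1 := Subgroup.mem_bot.1 (hbot ▸ ⟨x, rfl⟩)
    exact congrArg Subtype.val this

/-- Transport of the hypotheses along an isomorphism of the target. -/
theorem commutator_le_range_comp {G G' S : Type*} [Group G] [Group G'] [Group S] (φ : S →* G) (e : G ≃* G')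
    (hle : commutator G ≤ φ.range) : commutator G' ≤ (e.toMonoidHom.comp φ).range := by
  have h : (⊤ : Subgroup G).map e.toMonoidHom = ⊤ := Subgroup.map_top_of_surjective _ e.surjective
  rw [MonoidHom.range_comp, commutator_def, ← h, ← Subgroup.map_commutator]
  exact Subgroup.map_mono hle

variable {F : Type*} [Field F] {ι κ : Type} [Fintype ι] [DecidableEq ι] [Fintype κ] [DecidableEq κ]

theorem mem_iso {ι : Type} [Fintype ι] [DecidableEq ι] {Q : (ι → F) → F} {g : GL ι F} :
    g ∈ Cfsg.isometryGroup F Q ↔ ∀ v : ι → F, Q ((g : Matrix ι ι F).mulVec v) = Q v :=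
  ⟨fun h v => h v v, fun h u _ => h u⟩

/-- Renaming of coordinates. -/
theorem isometry_reindex (e : κ ≃ ι) (Q : (ι → F) → F) (Q' : (κ → F) → F)
    (h : ∀ v, Q' v = Q (fun i => v (e.symm i))) :
    Nonempty (↥(Cfsg.isometryGroup F Q') ≃* ↥(Cfsg.isometryGroup F Q)) := by
  let m : GL κ F ≃* GL ι F :=
    Units.mapEquiv ((Matrix.reindexAlgEquiv F F e).toMulEquiv : Matrix κ κ F ≃* Matrix ι ι F)
  refine ⟨(m.subgroupMap _).trans (MulEquiv.subgroupCongr ?_)⟩
  have key : ∀ (g : GL κ F) (v : ι → F),
      (m g : Matrix ι ι F).mulVec v = fun i => ((g : Matrix κ κ F).mulVec (v ∘ e)) (e.symm i) := by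
    intro g v
    show (Matrix.reindex e e (g : Matrix κ κ F)).mulVec v = _
    rw [Matrix.reindex_apply, Matrix.submatrix_mulVec_equiv]
    rfl
  ext g
  rw [Subgroup.mem_map]
  constructor
  · rintro ⟨g', hg', rfl⟩
    rw [mem_iso] at hg' ⊢
    intro v
    show Q ((m g' : Matrix ι ι F).mulVec v) = Q v
    rw [key, ← h, hg', h]
    exact congrArg Q (funext fun i => congrArg v (e.apply_symm_apply i))
  · intro hg
    refine ⟨m.symm g, ?_, m.apply_symm_apply g⟩
    rw [mem_iso] at hg ⊢
    intro v
    have hk := key (m.symm g) (fun i => v (e.symm i))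
    rw [MulEquiv.apply_symm_apply] at hk
    have hv : (fun i => v (e.symm i)) ∘ e = v := funext fun x => congrArg v (e.symm_apply_apply x)
    rw [hv] at hk
    rw [h, h, ← hk]
    exact hg _

end Cfsg.Agent.Lib.Classical.RootModel
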