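import Cfsg.Agent.Lib.Classical.RootModel.Engine
import Cfsg.Prelude.Def_ChevD4

/-!
The natural orthogonal root matrices of type D4. Roots in orthonormal coordinates:
0: (-1, -1, 0, 0)
1: (-1, 0, -1, 0)
2: (-1, 0, 0, 1)
3: (-1, 0, 0, -1)
4: (-1, 0, 1, 0)
5: (-1, 1, 0, 0)
6: (0, -1, -1, 0)
7: (0, -1, 0, 1)
8: (0, -1, 0, -1)
9: (0, -1, 1, 0)
10: (0, 0, -1, 1)
11: (0, 0, -1, -1)
12: (0, 0, 1, 1)
13: (0, 0, 1, -1)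
14: (0, 1, -1, 0)
15: (0, 1, 0, 1)
16: (0, 1, 0, -1)
17: (0, 1, 1, 0)
18: (1, -1, 0, 0)
19: (1, 0, -1, 0)
20: (1, 0, 0, 1)
21: (1, 0, 0, -1)
22: (1, 0, 1, 0)
23: (1, 1, 0, 0)
-/

set_option autoImplicit false

namespace Cfsg.Agent.Lib.Classical.RootModel

/-- The model of type D4. -/
def modelD4 : Model where
  n := 8
  rows := [
    [(5, 0, -1, 1), (4, 1, 1, 1)],
    [(6, 0, 1, 1), (4, 2, -1, 1)],
    [(3, 0, -1, 1), (4, 7, 1, 1)],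
    [(7, 0, -1, 1), (4, 3, 1, 1)],
    [(2, 0, -1, 1), (4, 6, 1, 1)],
    [(1, 0, -1, 1), (4, 5, 1, 1)],
    [(6, 1, 1, 1), (5, 2, -1, 1)],
    [(3, 1, -1, 1), (5, 7, 1, 1)],
    [(7, 1, -1, 1), (5, 3, 1, 1)],
    [(2, 1, -1, 1), (5, 6, 1, 1)],
    [(3, 2, -1, 1), (6, 7, 1, 1)],
    [(7, 2, -1, 1), (6, 3, 1, 1)],
    [(3, 6, 1, 1), (2, 7, -1, 1)],
    [(7, 6, 1, 1), (2, 3, -1, 1)],
    [(6, 5, 1, 1), (1, 2, -1, 1)],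
    [(3, 5, 1, 1), (1, 7, -1, 1)],
    [(7, 5, 1, 1), (1, 3, -1, 1)],
    [(2, 5, -1, 1), (1, 6, 1, 1)],
    [(5, 4, 1, 1), (0, 1, -1, 1)],
    [(6, 4, 1, 1), (0, 2, -1, 1)],
    [(3, 4, 1, 1), (0, 7, -1, 1)],
    [(7, 4, 1, 1), (0, 3, -1, 1)],
    [(2, 4, -1, 1), (0, 6, 1, 1)],
    [(1, 4, 1, 1), (0, 5, -1, 1)]]
  tor := [
    [(0, 1), (0, 1), (0, 0), (0, 0), (1, 0), (1, 0), (0, 0), (0, 0)],
    [(0, 1), (0, 0), (0, 1), (0, 0), (1, 0), (0, 0), (1, 0), (0, 0)],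
    [(0, 1), (0, 0), (0, 0), (1, 0), (1, 0), (0, 0), (0, 0), (0, 1)],
    [(0, 1), (0, 0), (0, 0), (0, 1), (1, 0), (0, 0), (0, 0), (1, 0)],
    [(0, 1), (0, 0), (1, 0), (0, 0), (1, 0), (0, 0), (0, 1), (0, 0)],
    [(0, 1), (1, 0), (0, 0), (0, 0), (1, 0), (0, 1), (0, 0), (0, 0)],
    [(0, 0), (0, 1), (0, 1), (0, 0), (0, 0), (1, 0), (1, 0), (0, 0)],
    [(0, 0), (0, 1), (0, 0), (1, 0), (0, 0), (1, 0), (0, 0), (0, 1)],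
    [(0, 0), (0, 1), (0, 0), (0, 1), (0, 0), (1, 0), (0, 0), (1, 0)],
    [(0, 0), (0, 1), (1, 0), (0, 0), (0, 0), (1, 0), (0, 1), (0, 0)],
    [(0, 0), (0, 0), (0, 1), (1, 0), (0, 0), (0, 0), (1, 0), (0, 1)],
    [(0, 0), (0, 0), (0, 1), (0, 1), (0, 0), (0, 0), (1, 0), (1, 0)],
    [(0, 0), (0, 0), (1, 0), (1, 0), (0, 0), (0, 0), (0, 1), (0, 1)],
    [(0, 0), (0, 0), (1, 0), (0, 1), (0, 0), (0, 0), (0, 1), (1, 0)],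
    [(0, 0), (1, 0), (0, 1), (0, 0), (0, 0), (0, 1), (1, 0), (0, 0)],
    [(0, 0), (1, 0), (0, 0), (1, 0), (0, 0), (0, 1), (0, 0), (0, 1)],
    [(0, 0), (1, 0), (0, 0), (0, 1), (0, 0), (0, 1), (0, 0), (1, 0)],
    [(0, 0), (1, 0), (1, 0), (0, 0), (0, 0), (0, 1), (0, 1), (0, 0)],
    [(1, 0), (0, 1), (0, 0), (0, 0), (0, 1), (1, 0), (0, 0), (0, 0)],
    [(1, 0), (0, 0), (0, 1), (0, 0), (0, 1), (0, 0), (1, 0), (0, 0)],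
    [(1, 0), (0, 0), (0, 0), (1, 0), (0, 1), (0, 0), (0, 0), (0, 1)],
    [(1, 0), (0, 0), (0, 0), (0, 1), (0, 1), (0, 0), (0, 0), (1, 0)],
    [(1, 0), (0, 0), (1, 0), (0, 0), (0, 1), (0, 0), (0, 1), (0, 0)],
    [(1, 0), (1, 0), (0, 0), (0, 0), (0, 1), (0, 1), (0, 0), (0, 0)]]
  form := [(0, 4, 1), (1, 5, 1), (2, 6, 1), (3, 7, 1)]

theorem chkD4 : modelD4.chk Cfsg.Lie.chevD4 = true := by decide +kernel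

end Cfsg.Agent.Lib.Classical.RootModel
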