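import Cfsg.Agent.Lib.Classical.RootModel.Ops
import Cfsg.Agent.Lib.Classical.RootModel.DataD4

/-!
The root elements of type D4 generate a subgroup containing the commutator subgroup of `O₈⁺`.
-/

set_option autoImplicit false

namespace Cfsg.Agent.Lib.Classical.RootModel

open Cfsg.Lie
open scoped Matrix commutatorElement

variable {F : Type*} [Field F]

/-- The split form in eight variables. -/
def formEight (F : Type*) [Field F] (v : Fin 8 → F) : F := v 0 * v 4 + v 1 * v 5 + v 2 * v 6 + v 3 * v 7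

/-- The opposite coordinate. -/
def barEight (i : Fin 8) : Fin 8 := i + 4

theorem barEight_ne (i : Fin 8) : barEight i ≠ i := by revert i; decide

theorem barEight_bar (i : Fin 8) : barEight (barEight i) = i := by revert i; decide

/-- The identification of the coordinates. -/
abbrev qEight : Fin modelD4.n ≃ Fin 8 := Equiv.refl (Fin 8)

theorem opsD4 : ∀ i j : Fin 8, i ≠ j → i ≠ barEight j →
    modelD4.chkSearch 24 i.val [((i.val, i.val, 0, 0), 1), ((i.val, j.val, 1, 0), 1)]
      (((List.finRange 8).filter fun l => decide (l ≠ j ∧ l ≠ barEight i)).map Fin.val) = true := by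
  decide +kernel

theorem rowsD4 : ∀ r : Fin 24, ∃ i j : Fin 8, (modelD4.mv r.val).map (fun e => (e.1, e.2.1, e.2.2.2)) =
    [(i.val, j.val, 1), ((barEight j).val, (barEight i).val, 1)] := by
  decide +kernel

/-- The exchange of the last pair. -/
def swapEight (a : ℕ) : ℕ := if a = 3 then 7 else if a = 7 then 3 else a

theorem chkSwap : modelD4.chkPerm 24 swapEight = true := by decide +kernel

theorem negD4 : ∀ r : Fin 24, chevD4.neg r.val < 24 := by decide +kernel

theorem torTwelve : ∀ x : Fin 8, (modelD4.tor.getD 12 []).getD (qEight.symm x) (0, 0) =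
    ![(0, 0), (0, 0), (1, 0), (1, 0), (0, 0), (0, 0), (0, 1), (0, 1)] x := by decide

theorem torThirteen : ∀ x : Fin 8, (modelD4.tor.getD 13 []).getD (qEight.symm x) (0, 0) =
    ![(0, 0), (0, 0), (1, 0), (0, 1), (0, 0), (0, 0), (0, 1), (1, 0)] x := by decide

theorem formEight_dot (v : Fin 8 → F) : formEight F v = v ⬝ᵥ (ev qEight (0 : F) 0 modelD4.formP *ᵥ v) := by
  simp [formEight, qEight, Model.formP, modelD4, ev_cons, mono, Matrix.add_mulVec, Matrix.single_mulVec,
    dotProduct, Fin.sum_univ_eight]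

section
variable (φ : chevD4.SteinbergGroup F →* ↥(Cfsg.isometryGroup F (formEight F)))

/-- The image as a frame. -/
def frameD4 (hφ : ∀ (r : ℕ) (t : F), r < chevD4.nroots →
    (((φ (chevD4.stGen F r t) : ↥(Cfsg.isometryGroup F (formEight F))) : GL (Fin 8) F) :
      Matrix (Fin 8) (Fin 8) F) = modelD4.X qEight r t) : Frame F 8 where
  Qf := formEight F
  bar := barEight
  E := φ.range.map (Cfsg.isometryGroup F (formEight F)).subtype
  hb := barEight_bar
  h0 := by simp [formEight]
  hpol := fun l _ v c => by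
    fin_cases l <;> simp [formEight, barEight, Pi.single_apply] <;> ring
  hE := by
    rintro _ ⟨x, -, rfl⟩
    exact x.2
  op := fun i j _ _ h1 h2 c => by
    obtain ⟨g, hg, hrow, hfix⟩ := modelD4.search_sound qEight (fun _ => rfl)
      (E := φ.range.map (Cfsg.isometryGroup F (formEight F)).subtype) (N := 24)
      (fun r hr t => ⟨_, ⟨_, ⟨_, rfl⟩, rfl⟩, hφ r t hr⟩) (opsD4 i j h1 h2) c
    refine ⟨g, hg, fun v => ?_, fun l hl hl' => hfix l ?_⟩
    · rw [hrow v]; exact ev_two_row modelD4 (q := qEight) (fun _ => rfl) i j c v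
    · exact List.mem_map.2 ⟨l, List.mem_filter.2 ⟨List.mem_finRange _, by simp [hl, hl']⟩, rfl⟩

variable {n : ℕ} (W : Frame F n)

/-- Make a chosen coordinate non-zero. -/
theorem Frame.lift_pairs {S : Finset (Fin n)} {k j : Fin n} (hk : W.bar k ≠ k) (hkS : k ∈ S)
    (hkS' : W.bar k ∈ S) (hstab : ∀ l ∈ S, W.bar l ∈ S) (hjS : j ∈ S) (hj : W.bar j ≠ j)
    (hjk : j ≠ k) (hjk' : j ≠ W.bar k) (v : Fin n → F) (hv : ∃ l ∈ S, W.bar l ≠ l ∧ v l ≠ 0) :
    ∃ h ∈ W.E, act h v k ≠ 0 ∧ ∀ l, l ∉ S → Fix h l := by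
  have step : ∀ (w : Fin n → F) (l : Fin n), l ∈ S → W.bar l ≠ l → l ≠ k → l ≠ W.bar k → w l ≠ 0 →
      ∃ h ∈ W.E, act h w k ≠ 0 ∧ ∀ x, x ∉ S → Fix h x := by
    intro w l hl hlb h1 h2 hw
    by_cases hwk : w k = 0
    · obtain ⟨o, ho, hoi, hof⟩ := W.op k l hk hlb h1.symm (fun e => h2 (by rw [e, W.hb])) 1
      refine ⟨o, ho, ?_, fun x hx => hof x (fun e => hx (e ▸ hl)) fun e => hx (e ▸ hkS')⟩
      rw [hoi, hwk, zero_add, one_mul]
      exact hw
    · exact ⟨1, one_mem _, by rwa [act_one], fun x _ => Fix.one x⟩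
  by_cases hvk : v k = 0
  swap
  · exact ⟨1, one_mem _, by rwa [act_one], fun x _ => Fix.one x⟩
  obtain ⟨l, hl, hlb, hvl⟩ := hv
  by_cases h2 : l = W.bar k
  swap
  · exact step v l hl hlb (fun e => hvl (e ▸ hvk)) h2 hvl
  subst h2
  by_cases hvj : v j = 0
  swap
  · exact step v j hjS hj hjk hjk' hvj
  obtain ⟨o, ho, hoi, hof⟩ := W.op j (W.bar k) hj (W.bar_ne hk) hjk' (by rwa [W.hb]) 1
  obtain ⟨h, hh, hne, hf⟩ := step (act o v) j hjS hj hjk hjk' (by rwa [hoi, hvj, zero_add, one_mul])
  exact ⟨h * o, mul_mem hh ho, by rwa [act_mul], fun x hx => (hf x hx).mul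
    (hof x (fun e => hx (e ▸ hkS')) fun e => hx (e ▸ hstab j hjS))⟩

end

theorem commutator_le_rangeD4 (φ : chevD4.SteinbergGroup F →* ↥(Cfsg.isometryGroup F (formEight F)))
    (hφ : ∀ (r : ℕ) (t : F), r < chevD4.nroots →
    (((φ (chevD4.stGen F r t) : ↥(Cfsg.isometryGroup F (formEight F))) : GL (Fin 8) F) :
      Matrix (Fin 8) (Fin 8) F) = modelD4.X qEight r t) :
    commutator ↥(Cfsg.isometryGroup F (formEight F)) ≤ φ.range := by
  classical
  set W := frameD4 φ hφ with hW
  have hbar : ∀ l : Fin 8, W.bar l ≠ l := barEight_ne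
  have stage : ∀ (S : Finset (Fin 8)) (k j : Fin 8), k ∈ S → (∀ l ∈ S, barEight l ∈ S) → j ∈ S → j ≠ k →
      j ≠ barEight k → W.Stage S k := by
    intro S k j hkS hst hjS hjk hjk'
    refine ⟨hkS, hbar k, hst, fun l _ => hbar l, fun m _ v _ => ?_, fun v hv hv0 _ => ?_⟩
    · exact ⟨1, one_mem _, fun z _ hz => absurd hz (hbar z), fun l _ _ => Fix.one l⟩
    · refine W.lift_pairs (hbar k) hkS (hst k hkS) hst hjS (hbar j) hjk hjk' v ?_
      by_contra hcon
      push Not at hcon
      exact hv0 (funext fun l => if hl : l ∈ S then hcon l hl (hbar l) else hv l hl)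
  have s1 := stage Finset.univ 0 1 (by simp) (by simp) (by simp) (by decide) (by decide)
  have s2 := stage {1, 2, 3, 5, 6, 7} 1 2 (by decide) (by decide) (by decide) (by decide) (by decide)
  have s3 := stage {2, 3, 6, 7} 2 3 (by decide) (by decide) (by decide) (by decide) (by decide)
  -- the exchange
  set P : Matrix (Fin 8) (Fin 8) F := ev qEight (0 : F) 0 (permP 8 swapEight) with hP
  have hPP : P * P = 1 := modelD4.perm_sq qEight chkSwap
  have hPv : ∀ v : Fin 8 → F, P *ᵥ v = ![v 0, v 1, v 2, v 7, v 4, v 5, v 6, v 3] := fun v => by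
    funext x
    rw [hP]
    simp [permP, swapEight, List.range_succ, qEight, ev_cons, mono, modelD4, Matrix.add_mulVec,
      Matrix.single_mulVec, ev_append]
    fin_cases x <;> simp
  have hPO : (⟨P, P, hPP, hPP⟩ : GL (Fin 8) F) ∈ Cfsg.isometryGroup F (formEight F) := by
    intro v _
    show formEight F (P *ᵥ v) = formEight F v
    rw [hPv]
    simp [formEight]
    ring
  set σ : ↥(Cfsg.isometryGroup F (formEight F)) := ⟨_, hPO⟩ with hσ
  let T : Set ↥(Cfsg.isometryGroup F (formEight F)) :=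
    {g | ∃ d, ((g : GL (Fin 8) F) : Matrix (Fin 8) (Fin 8) F) = Matrix.diagonal d}
  -- diagonal isometries
  have hdinv : ∀ (g : ↥(Cfsg.isometryGroup F (formEight F))) (d : Fin 8 → F),
      ((g : GL (Fin 8) F) : Matrix (Fin 8) (Fin 8) F) = Matrix.diagonal d →
      ∀ l, d l * d (barEight l) = 1 := by
    intro g d hd l
    have hline : ∀ x, act (g : GL (Fin 8) F) (bv x) = d x • bv x := fun x => by
      rw [act, hd, Matrix.mulVec_single_one]
      funext a
      simp [Matrix.diagonal_apply, Pi.single_apply]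
      aesop
    have h := W.coord_of_line g.2 (hbar l) (hline l) (bv (barEight l))
    rw [hline] at h
    simpa [hW, frameD4] using h
  refine commutator_le_of_cover φ.range T σ (fun g => ?_) (fun t ht => ?_) ?_ (fun t ht u hu => ?_) fun t ht => ?_
  · -- generation
    obtain ⟨h1, hh1, hl1⟩ := s1.reduce g.2 (fun l hl => absurd (Finset.mem_univ l) hl)
    have hg1 : h1 * (g : GL (Fin 8) F) ∈ Cfsg.isometryGroup F W.Qf := mul_mem (W.hE hh1) g.2
    obtain ⟨h2, hh2, hl2⟩ := s2.reduce hg1 (fun l hl => hl1 l (by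
      revert hl; revert l; simp only [hW, frameD4]; decide))
    have hg2 : h2 * (h1 * (g : GL (Fin 8) F)) ∈ Cfsg.isometryGroup F W.Qf := mul_mem (W.hE hh2) hg1
    obtain ⟨h3, hh3, hl3⟩ := s3.reduce hg2 (fun l hl => hl2 l (by
      revert hl; revert l; simp only [hW, frameD4]; decide))
    set g3 := h3 * (h2 * (h1 * (g : GL (Fin 8) F))) with hg3'
    have hg3 : g3 ∈ Cfsg.isometryGroup F W.Qf := mul_mem (W.hE hh3) hg2
    have hlines : ∀ l : Fin 8, l ≠ 3 → l ≠ 7 → Line g3 l := fun l hl hl' => hl3 l (by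
      revert hl hl'; revert l; simp only [hW, frameD4]; decide)
    have finish : ∀ a : GL (Fin 8) F, a ∈ Cfsg.isometryGroup F W.Qf →
        (∀ l : Fin 8, l ≠ 3 → l ≠ 7 → Line a l) → act a (bv 3) 7 = 0 →
        ∃ d, (a : Matrix (Fin 8) (Fin 8) F) = Matrix.diagonal d := by
      intro a ha hla h7
      have hsup : ∀ x, ∀ l : Fin 8, l ≠ 3 → l ≠ 7 → bv (F := F) x l = 0 → act a (bv x) l = 0 := by
        intro x l hl hl' hx
        obtain ⟨c, hc⟩ := hla (barEight l) (by clear hx; revert hl hl'; revert l; decide)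
          (by clear hx; revert hl hl'; revert l; decide)
        have h := W.coord_of_line ha (hbar _) hc (bv x)
        rw [show W.bar (barEight l) = l from barEight_bar l, hx] at h
        exact (mul_eq_zero.1 h).resolve_left (Line.ne_zero hc)
      have e3 : act a (bv 3) = act a (bv 3) 3 • bv 3 := by
        funext l
        by_cases hl : l = 3
        · subst hl; simp
        by_cases hl' : l = 7
        · subst hl'; simp [h7]
        rw [hsup 3 l hl hl' (Pi.single_eq_of_ne hl 1)]
        simp [Pi.single_eq_of_ne hl]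
      have h77 := W.coord_of_line ha (hbar 3) e3 (bv 7)
      have hQ : formEight F (act a (bv 7)) = 0 := by
        rw [show formEight F (act a (bv 7)) = formEight F (bv (F := F) 7) from W.iso ha _]
        simp [formEight]
      have hz : ∀ l : Fin 8, l ≠ 3 → l ≠ 7 → act a (bv 7) l = 0 := fun l hl hl' =>
        hsup 7 l hl hl' (Pi.single_eq_of_ne hl' 1)
      have h73 : act a (bv 7) 3 = 0 := by
        rw [formEight, hz 0 (by decide) (by decide), hz 1 (by decide) (by decide),
          hz 2 (by decide) (by decide)] at hQ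
        simp only [zero_mul, zero_add] at hQ
        refine (mul_eq_zero.1 hQ).resolve_right fun h => ?_
        rw [show W.bar 3 = 7 from rfl, h, mul_zero, show bv (F := F) (7 : Fin 8) 7 = 1 from Pi.single_eq_same _ _] at h77
        exact zero_ne_one h77
      refine exists_diagonal fun l => ?_
      by_cases hl : l = 3
      · exact hl ▸ ⟨_, e3⟩
      by_cases hl' : l = 7
      · subst hl'
        refine ⟨act a (bv 7) 7, ?_⟩
        funext x
        by_cases hx' : x = 7
        · subst hx'; simp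
        by_cases hx : x = 3
        · subst hx; simp [h73]
        simp [hz x hx hx', Pi.single_eq_of_ne hx']
      exact hla l hl hl'
    obtain ⟨e, he, hee⟩ : h3 * (h2 * h1) ∈ W.E := mul_mem hh3 (mul_mem hh2 hh1)
    replace hee : (e : GL (Fin 8) F) = h3 * (h2 * h1) := hee
    have heg : ((e * g : ↥(Cfsg.isometryGroup F (formEight F))) : GL (Fin 8) F) = g3 := by
      rw [Subgroup.coe_mul, hee, hg3']; group
    by_cases h7 : act g3 (bv 3) 7 = 0
    · obtain ⟨d, hd⟩ := finish g3 hg3 hlines h7
      exact ⟨e⁻¹, inv_mem he, e * g, ⟨d, by rw [heg, hd]⟩, Or.inl (by group)⟩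
    · have hsw : ∀ v : Fin 8 → F, act ((σ : GL (Fin 8) F) * g3) v = P *ᵥ act g3 v := fun v => act_mul _ _ v
      have hl' : ∀ l : Fin 8, l ≠ 3 → l ≠ 7 → Line ((σ : GL (Fin 8) F) * g3) l := by
        intro l hl hl'
        refine (hlines l hl hl').mul_fix ?_
        show P *ᵥ bv l = bv l
        rw [hPv]
        funext x
        fin_cases x <;> fin_cases l <;> simp_all
      have h33 : act g3 (bv 3) 3 = 0 := by
        have hQ : formEight F (act g3 (bv 3)) = 0 := by
          rw [show formEight F (act g3 (bv 3)) = formEight F (bv (F := F) 3) from W.iso hg3 _]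
          simp [formEight]
        have hz : ∀ l : Fin 8, l ≠ 3 → l ≠ 7 → act g3 (bv 3) l = 0 := by
          intro l hl hl''
          obtain ⟨c, hc⟩ := hlines (barEight l) (by revert hl hl''; revert l; decide)
            (by revert hl hl''; revert l; decide)
          have h := W.coord_of_line hg3 (hbar _) hc (bv 3)
          rw [show W.bar (barEight l) = l from barEight_bar l, show bv (F := F) (3 : Fin 8) l = 0 from
            Pi.single_eq_of_ne hl 1] at h
          exact (mul_eq_zero.1 h).resolve_left (Line.ne_zero hc)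
        rw [formEight, hz 0 (by decide) (by decide), hz 1 (by decide) (by decide),
          hz 2 (by decide) (by decide)] at hQ
        simp only [zero_mul, zero_add] at hQ
        exact (mul_eq_zero.1 hQ).resolve_right h7
      obtain ⟨d, hd⟩ := finish _ (mul_mem σ.2 hg3) hl' (by rw [hsw, hPv]; simp [h33])
      have hσ2 : σ * σ = 1 := Subtype.ext (Units.ext hPP)
      refine ⟨e⁻¹, inv_mem he, σ * (e * g), ⟨d, ?_⟩, Or.inr ?_⟩
      · rw [Subgroup.coe_mul, heg, hd]
      · rw [← mul_assoc σ σ, hσ2, one_mul, inv_mul_cancel_left]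
  · -- torus normalises
    obtain ⟨d, hd⟩ := ht
    refine conj_range φ t fun r hr u => ?_
    obtain ⟨i, j, hij⟩ := rowsD4 ⟨r, hr⟩
    refine ⟨chevD4.stGen F r (d i * d (barEight j) * u), mul_inv_eq_iff_eq_mul.2 ?_ |>.symm⟩
    refine Subtype.ext (Units.ext ?_)
    simp only [Subgroup.coe_mul, Units.val_mul]
    rw [hφ r _ hr, hφ r _ hr, hd]
    refine modelD4.diag_conj qEight (fun _ => rfl) (fun e he a b ha hb => ?_) u
    have hmem : (e.1, e.2.1, e.2.2.2) ∈ [(i.val, j.val, 1), ((barEight j).val, (barEight i).val, 1)] :=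
      hij ▸ List.mem_map.2 ⟨e, he, rfl⟩
    simp only [List.mem_cons, List.not_mem_nil, or_false, Prod.mk.injEq] at hmem
    have hi := hdinv t d hd i
    have hj := hdinv t d hd j
    rcases hmem with ⟨h1, h2, h3⟩ | ⟨h1, h2, h3⟩
    · obtain rfl : a = i := Fin.ext (ha.trans h1)
      obtain rfl : b = j := Fin.ext (hb.trans h2)
      rw [h3, pow_one]
      linear_combination (-(d a)) * hj
    · obtain rfl : a = barEight j := Fin.ext (ha.trans h1)
      obtain rfl : b = barEight i := Fin.ext (hb.trans h2)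
      rw [h3, pow_one]
      linear_combination (-(d (barEight j))) * hi
  · refine conj_range φ σ fun r hr u => ?_
    obtain ⟨s, hs, c, hc⟩ := modelD4.perm_conj qEight chkSwap hr u
    refine ⟨chevD4.stGen F s c, Subtype.ext (Units.ext ?_)⟩
    simp only [Subgroup.coe_mul, Subgroup.coe_inv, Units.val_mul]
    rw [hφ r _ hr, hφ s _ hs]
    exact hc.symm
  · obtain ⟨d, hd⟩ := ht
    obtain ⟨e, he⟩ := hu
    have : t * u = u * t := Subtype.ext (Units.ext (by
      simp only [Subgroup.coe_mul, Units.val_mul]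
      rw [hd, he, Matrix.diagonal_mul_diagonal, Matrix.diagonal_mul_diagonal]
      simp [mul_comm]))
    rw [commutatorElement_eq_one_iff_commute.2 this]
    exact one_mem _
  · obtain ⟨d, hd⟩ := ht
    have h37 : d 3 * d 7 = 1 := hdinv t d hd 3
    have h7 : d 7 ≠ 0 := fun h => one_ne_zero (h37.symm.trans (by rw [h, mul_zero]))
    let h : ℕ → F → chevD4.SteinbergGroup F := fun r s =>
      chevD4.stGen F r s * chevD4.stGen F (chevD4.neg r) (-s⁻¹) * chevD4.stGen F r s *
        (chevD4.stGen F r (-1) * chevD4.stGen F (chevD4.neg r) (-(-1)⁻¹) * chevD4.stGen F r (-1))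
    have hh : ∀ r, r < 24 → ∀ s : F, s ≠ 0 →
        (((φ (h r s) : ↥(Cfsg.isometryGroup F (formEight F))) : GL (Fin 8) F) : Matrix (Fin 8) (Fin 8) F) =
        Matrix.diagonal fun x => s ^ ((modelD4.tor.getD r []).getD (qEight.symm x) (0, 0)).1 *
          s⁻¹ ^ ((modelD4.tor.getD r []).getD (qEight.symm x) (0, 0)).2 := by
      intro r hr s hs
      have hn := negD4 ⟨r, hr⟩
      have hc := chkD4
      simp only [Model.chk, List.all_eq_true, List.mem_range, Bool.and_eq_true] at hc
      rw [← modelD4.N_diag qEight chevD4 (hc r hr).1.1.1.2 hs]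
      simp only [h, map_mul, Subgroup.coe_mul, Units.val_mul]
      rw [hφ r s hr, hφ _ _ hn, hφ r (-1) hr, hφ _ _ hn]
      rfl
    refine ⟨h 12 (d 7) * h 13 (d 7)⁻¹, ?_⟩
    rw [eq_comm, commutatorElement_def, mul_inv_eq_iff_eq_mul, mul_inv_eq_iff_eq_mul]
    refine Subtype.ext (Units.ext ?_)
    simp only [map_mul, Subgroup.coe_mul, Units.val_mul]
    rw [hd, hh 12 (by decide) _ h7, hh 13 (by decide) _ (inv_ne_zero h7)]
    simp only [torTwelve, torThirteen]
    refine Matrix.ext_of_mulVec_single fun l => ?_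
    show (P * Matrix.diagonal d) *ᵥ bv l = _
    simp only [← Matrix.mulVec_mulVec]
    show P *ᵥ (Matrix.diagonal d *ᵥ bv l) =
      Matrix.diagonal _ *ᵥ (Matrix.diagonal _ *ᵥ (Matrix.diagonal d *ᵥ (P *ᵥ bv l)))
    simp only [hPv]
    funext x
    fin_cases l <;> fin_cases x <;>
      simp [Matrix.mulVec_diagonal, Pi.single_apply] <;>
      field_simp <;> first | linear_combination h37 | linear_combination -h37

end Cfsg.Agent.Lib.Classical.RootModel
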