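import Cfsg.Agent.Lib.Classical.RootModel.Engine
import Cfsg.Prelude.Def_ChevB2

/-!
The natural orthogonal root matrices of type B2. Roots in orthonormal coordinates:
0: (-1, -1)
1: (-1, 0)
2: (0, -1)
3: (-1, 1)
4: (1, -1)
5: (0, 1)
6: (1, 0)
7: (1, 1)
-/

set_option autoImplicit false

namespace Cfsg.Agent.Lib.Classical.RootModel

/-- The model of type B2. -/
def modelB2 : Model where
  n := 5
  rows := [
    [(4, 1, -1, 1), (3, 2, 1, 1)],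
    [(3, 0, -2, 1), (0, 1, 1, 1), (3, 1, -1, 2)],
    [(4, 0, 2, 1), (0, 2, -1, 1), (4, 2, -1, 2)],
    [(2, 1, -1, 1), (3, 4, 1, 1)],
    [(4, 3, 1, 1), (1, 2, -1, 1)],
    [(2, 0, -2, 1), (0, 4, 1, 1), (2, 4, -1, 2)],
    [(1, 0, 2, 1), (0, 3, -1, 1), (1, 3, -1, 2)],
    [(2, 3, 1, 1), (1, 4, -1, 1)]]
  tor := [
    [(0, 0), (0, 1), (0, 1), (1, 0), (1, 0)],
    [(0, 0), (0, 2), (0, 0), (2, 0), (0, 0)],
    [(0, 0), (0, 0), (0, 2), (0, 0), (2, 0)],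
    [(0, 0), (0, 1), (1, 0), (1, 0), (0, 1)],
    [(0, 0), (1, 0), (0, 1), (0, 1), (1, 0)],
    [(0, 0), (0, 0), (2, 0), (0, 0), (0, 2)],
    [(0, 0), (2, 0), (0, 0), (0, 2), (0, 0)],
    [(0, 0), (1, 0), (1, 0), (0, 1), (0, 1)]]
  form := [(0, 0, 1), (1, 3, 1), (2, 4, 1)]

theorem chkB2 : modelB2.chk Cfsg.Lie.chevB2 = true := by decide +kernel

end Cfsg.Agent.Lib.Classical.RootModel
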