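import Cfsg.Agent.Lib.Classical.RootModel.PMat
import Cfsg.Prelude.Def_Steinberg
import Cfsg.Prelude.Def_Classical

/-!
A representation of a Steinberg presentation by polynomial root matrices, checked in the kernel.
-/

set_option autoImplicit false

namespace Cfsg.Agent.Lib.Classical.RootModel

open Cfsg.Lie
open scoped Matrix

/-- Root matrices: for each root, the entries `(row, column, coefficient, degree)` of `x_r(t) - 1`. -/
structure Model where
  n : ℕ
  rows : List (List (ℕ × ℕ × ℤ × ℕ))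
  /-- exponents `(i, j)` of the diagonal entries `t^i t^(-j)` of `h_r(t)` -/
  tor : List (List (ℕ × ℕ))
  /-- entries `(row, column, coefficient)` of a matrix of the quadratic form -/
  form : List (ℕ × ℕ × ℤ)

variable (M : Model)

/-- The moves of a root. -/
def Model.mv (r : ℕ) : List (ℕ × ℕ × ℤ × ℕ) := M.rows.getD r []

/-- `x_r(C t^i u^j)`. -/
def Model.elem (r : ℕ) (C : ℤ) (i j : ℕ) : PMat :=
  oneP M.n ++ (M.mv r).map fun e => ((e.1, e.2.1, i * e.2.2.2, j * e.2.2.2), e.2.2.1 * C ^ e.2.2.2)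

/-- `x_r(t + u)`. -/
def Model.shift (r : ℕ) : PMat :=
  oneP M.n ++ (M.mv r).flatMap fun e =>
    (List.range (e.2.2.2 + 1)).map fun k => ((e.1, e.2.1, k, e.2.2.2 - k), e.2.2.1 * (e.2.2.2.choose k : ℤ))

variable {F : Type*} [Field F] {ι : Type} [Fintype ι] [DecidableEq ι] (q : Fin M.n ≃ ι)

/-- The root matrix. -/
def Model.X (r : ℕ) (s : F) : Matrix ι ι F := ev q s 0 (M.elem r 1 1 0)

theorem Model.ev_elem (r : ℕ) (C : ℤ) (i j : ℕ) (t u : F) :
    ev q t u (M.elem r C i j) = M.X q r ((C : F) * t ^ i * u ^ j) := by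
  rw [Model.X, Model.elem, Model.elem, ev_append, ev_append, ev_oneP, ev_oneP]
  congr 1
  induction M.mv r with
  | nil => rfl
  | cons e l ih =>
    simp only [List.map_cons, ev_cons, ih]
    congr 1
    simp only [mono]
    by_cases h : e.1 < M.n ∧ e.2.1 < M.n
    · simp only [dif_pos h, Matrix.smul_single, smul_eq_mul]
      congr 1
      push_cast
      rw [mul_pow, mul_pow, ← pow_mul, ← pow_mul, one_mul, zero_mul, pow_zero, one_pow]
      ring
    · simp only [dif_neg h, smul_zero]

theorem Model.ev_shift (r : ℕ) (t u : F) : ev q t u (M.shift r) = M.X q r (t + u) := by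
  rw [Model.X, Model.shift, Model.elem, ev_append, ev_append, ev_oneP, ev_oneP]
  congr 1
  induction M.mv r with
  | nil => rfl
  | cons e l ih =>
    simp only [List.map_cons, List.flatMap_cons, ev_cons, ev_append, ih]
    congr 1
    have hl : ∀ ks : List ℕ, ev q t u (ks.map fun k => (((e.1, e.2.1, k, e.2.2.2 - k),
        e.2.2.1 * (e.2.2.2.choose k : ℤ)) : PEntry)) =
        ((e.2.2.1 : F) * (ks.map fun k => t ^ k * u ^ (e.2.2.2 - k) * (e.2.2.2.choose k : F)).sum) •
          mono q t u (e.1, e.2.1, 0, 0) := by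
      intro ks
      induction ks with
      | nil => simp
      | cons k ks ih' =>
        simp only [List.map_cons, ev_cons, ih', List.sum_cons, mul_add, add_smul]
        congr 1
        simp only [mono]
        by_cases h : e.1 < M.n ∧ e.2.1 < M.n
        · simp only [dif_pos h, Matrix.smul_single, smul_eq_mul]
          congr 1
          push_cast
          ring
        · simp only [dif_neg h, smul_zero]
    rw [hl, ← List.sum_toFinset _ List.nodup_range, List.toFinset_range, ← add_pow]
    simp only [mono]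
    by_cases h : e.1 < M.n ∧ e.2.1 < M.n
    · simp only [dif_pos h, Matrix.smul_single, smul_eq_mul]
      congr 1
      push_cast
      ring
    · simp only [dif_neg h, smul_zero]

/-- `(R1)` and `x_r(0) = 1`. -/
def Model.chkAdd (r : ℕ) : Bool :=
  eqP (mulP M.n (M.elem r 1 1 0) (M.elem r 1 0 1)) (M.shift r) && eqP (M.elem r 0 0 0) (oneP M.n)

theorem Model.X_add {r : ℕ} (h : M.chkAdd r = true) (t u : F) : M.X q r t * M.X q r u = M.X q r (t + u) := by
  rw [Model.chkAdd, Bool.and_eq_true] at h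
  have h' := ev_eq_of_eqP (q := q) (t := t) (u := u) h.1
  rw [ev_mulP, M.ev_elem, M.ev_elem, M.ev_shift] at h'
  simpa using h'

theorem Model.X_zero {r : ℕ} (h : M.chkAdd r = true) : M.X q r (0 : F) = 1 := by
  rw [Model.chkAdd, Bool.and_eq_true] at h
  have h' := ev_eq_of_eqP (q := q) (t := (1 : F)) (u := (1 : F)) h.2
  rw [M.ev_elem, ev_oneP] at h'
  simpa using h'

/-- The right-hand side of the commutator formula. -/
def Model.wordP (l : List (ℕ × ℤ × ℕ × ℕ)) : PMat :=
  l.foldr (fun c acc => mulP M.n (M.elem c.1 (c.2.1 * (-1) ^ c.2.2.1) c.2.2.1 c.2.2.2) acc) (oneP M.n)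

theorem Model.ev_wordP (l : List (ℕ × ℤ × ℕ × ℕ)) (t u : F) :
    ev q t u (M.wordP l) =
      (l.map fun c => M.X q c.1 ((c.2.1 : F) * (-t) ^ c.2.2.1 * u ^ c.2.2.2)).prod := by
  induction l with
  | nil => exact ev_oneP
  | cons c l ih =>
    rw [Model.wordP, List.foldr_cons, ev_mulP, ← Model.wordP, ih, M.ev_elem, List.map_cons, List.prod_cons]
    congr 2
    push_cast
    rw [neg_pow t]
    ring

/-- `(R2)`. -/
def Model.chkComm (D : ChevalleyDatum) (r s : ℕ) : Bool :=
  eqP (mulP M.n (mulP M.n (mulP M.n (M.elem s (-1) 0 1) (M.elem r (-1) 1 0)) (M.elem s 1 0 1)) (M.elem r 1 1 0))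
    (M.wordP (D.commTerms r s))

/-- `n_r(t)` with `v = t⁻¹`. -/
def Model.nP (D : ChevalleyDatum) (r : ℕ) : PMat :=
  mulP M.n (mulP M.n (M.elem r 1 1 0) (M.elem (D.neg r) (-1) 0 1)) (M.elem r 1 1 0)

/-- `n_r(-1)`. -/
def Model.n1P (D : ChevalleyDatum) (r : ℕ) : PMat :=
  mulP M.n (mulP M.n (M.elem r (-1) 0 0) (M.elem (D.neg r) 1 0 0)) (M.elem r (-1) 0 0)

/-- Cancel `t v = 1`. -/
def cancelTV (A : PMat) : PMat :=
  A.map fun p => ((p.1.1, p.1.2.1, p.1.2.2.1 - min p.1.2.2.1 p.1.2.2.2, p.1.2.2.2 - min p.1.2.2.1 p.1.2.2.2), p.2)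

theorem ev_cancelTV {n : ℕ} {q : Fin n ≃ ι} {t v : F} (h : t * v = 1) (A : PMat) :
    ev q t v (cancelTV A) = ev q t v A := by
  induction A with
  | nil => rfl
  | cons p A ih =>
    simp only [cancelTV, List.map_cons, ev_cons] at ih ⊢
    rw [ih]
    congr 2
    obtain ⟨⟨a, b, i, j⟩, c⟩ := p
    simp only [mono]
    by_cases hab : a < n ∧ b < n
    · simp only [dif_pos hab]
      congr 1
      set m := min i j
      have hi : i = i - m + m := (Nat.sub_add_cancel (min_le_left i j)).symm
      have hj : j = j - m + m := (Nat.sub_add_cancel (min_le_right i j)).symm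
      conv_rhs => rw [hi, hj, pow_add, pow_add]
      have hm : t ^ m * v ^ m = 1 := by rw [← mul_pow, h, one_pow]
      linear_combination (-(t ^ (i - m) * v ^ (j - m))) * hm
    · simp only [dif_neg hab]

/-- The diagonal matrix of a torus element. -/
def diagP (l : List (ℕ × ℕ)) : PMat :=
  (List.range l.length).map fun a => ((a, a, (l.getD a (0, 0)).1, (l.getD a (0, 0)).2), 1)

theorem ev_diagP {n : ℕ} {q : Fin n ≃ ι} {t v : F} {l : List (ℕ × ℕ)} (hl : l.length = n) :
    ev q t v (diagP l) = Matrix.diagonal fun x =>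
      t ^ (l.getD (q.symm x) (0, 0)).1 * v ^ (l.getD (q.symm x) (0, 0)).2 := by
  refine Matrix.ext fun x y => ?_
  have : ∀ ks : List ℕ, ev q t v (ks.map fun a =>
      (((a, a, (l.getD a (0, 0)).1, (l.getD a (0, 0)).2), 1) : PEntry)) x y =
      (ks.map fun a => (mono q t v (a, a, (l.getD a (0, 0)).1, (l.getD a (0, 0)).2)) x y).sum := by
    intro ks
    induction ks with
    | nil => simp
    | cons a ks ih => rw [List.map_cons, ev_cons, Matrix.add_apply, ih, List.map_cons, List.sum_cons, Int.cast_one, one_smul]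
  rw [diagP, this, hl]
  obtain ⟨a, rfl⟩ := q.surjective x
  obtain ⟨b, rfl⟩ := q.surjective y
  rw [← List.sum_toFinset _ List.nodup_range, Finset.sum_eq_single (a : ℕ)]
  · simp [mono, Matrix.single_apply, Matrix.diagonal_apply]
  · intro c _ hc
    simp only [mono]
    by_cases h : c < n
    · rw [dif_pos ⟨h, h⟩, Matrix.single_apply, if_neg]
      rintro ⟨h1, -⟩
      exact hc (congrArg Fin.val (q.injective h1))
    · simp [h]
  · simp

/-- `(R3)`. -/
def Model.chkTor (D : ChevalleyDatum) (r : ℕ) : Bool :=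
  decide ((M.tor.getD r []).length = M.n) &&
    eqP (norm (cancelTV (mulP M.n (M.nP D r) (M.n1P D r)))) (diagP (M.tor.getD r []))

/-- The matrix of `n_r(t)`. -/
def Model.N (D : ChevalleyDatum) (r : ℕ) (t : F) : Matrix ι ι F :=
  M.X q r t * M.X q (D.neg r) (-t⁻¹) * M.X q r t

theorem Model.N_diag (D : ChevalleyDatum) {r : ℕ} (h : M.chkTor D r = true) {s : F} (hs : s ≠ 0) :
    M.N q D r s * M.N q D r (-1) = Matrix.diagonal fun x =>
      s ^ ((M.tor.getD r []).getD (q.symm x) (0, 0)).1 * s⁻¹ ^ ((M.tor.getD r []).getD (q.symm x) (0, 0)).2 := by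
  rw [Model.chkTor, Bool.and_eq_true, decide_eq_true_eq] at h
  have h' := ev_eq_of_eqP (q := q) (t := s) (u := s⁻¹) h.2
  rw [ev_norm, ev_cancelTV (mul_inv_cancel₀ hs), ev_mulP, ev_diagP h.1] at h'
  simp only [Model.nP, Model.n1P, ev_mulP, M.ev_elem] at h'
  rw [← h', Model.N, Model.N]
  simp

theorem Model.torus_mul (D : ChevalleyDatum) {r : ℕ} (h : M.chkTor D r = true) {t u : F} (ht : t ≠ 0) (hu : u ≠ 0) :
    (M.N q D r t * M.N q D r (-1)) * (M.N q D r u * M.N q D r (-1)) =
      M.N q D r (t * u) * M.N q D r (-1) := by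
  rw [M.N_diag q D h ht, M.N_diag q D h hu, M.N_diag q D h (mul_ne_zero ht hu), Matrix.diagonal_mul_diagonal]
  congr 1
  funext x
  rw [mul_inv, mul_pow, mul_pow]
  ring

/-- The matrix of the quadratic form. -/
def Model.formP : PMat := M.form.map fun e => ((e.1, e.2.1, 0, 0), e.2.2)

/-- Transpose. -/
def transP (A : PMat) : PMat := A.map fun p => ((p.1.2.1, p.1.1, p.1.2.2), p.2)

omit [Fintype ι] in
theorem ev_transP {n : ℕ} {q : Fin n ≃ ι} {t u : F} (A : PMat) : ev q t u (transP A) = (ev q t u A)ᵀ := by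
  induction A with
  | nil => simp [transP]
  | cons p A ih =>
    simp only [transP, List.map_cons, ev_cons, Matrix.transpose_add, Matrix.transpose_smul] at ih ⊢
    rw [ih]
    congr 2
    simp only [mono]
    by_cases h : p.1.1 < n ∧ p.1.2.1 < n
    · rw [dif_pos h, dif_pos h.symm, Matrix.transpose_single]
    · rw [dif_neg h, dif_neg (fun h' => h h'.symm), Matrix.transpose_zero]

/-- Negation. -/
def negP (A : PMat) : PMat := A.map fun p => (p.1, -p.2)

omit [Fintype ι] in
theorem ev_negP {n : ℕ} {q : Fin n ≃ ι} {t u : F} (A : PMat) : ev q t u (negP A) = - ev q t u A := by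
  induction A with
  | nil => simp [negP]
  | cons p A ih =>
    simp only [negP, List.map_cons, ev_cons, Int.cast_neg, neg_smul, neg_add] at ih ⊢
    rw [ih]

/-- The difference `Xᵀ U X - U` is alternating. -/
def Model.chkIso (r : ℕ) : Bool :=
  let P := norm (mulP M.n (mulP M.n (transP (M.elem r 1 1 0)) M.formP) (M.elem r 1 1 0) ++ negP M.formP)
  eqP (norm (P ++ transP P)) [] && eqP (P.filter fun p => decide (p.1.1 = p.1.2.1)) []

omit [Fintype ι] in
theorem diag_filter {n : ℕ} {q : Fin n ≃ ι} {t u : F} (A : PMat) (x : ι) :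
    ev q t u A x x = ev q t u (A.filter fun p => decide (p.1.1 = p.1.2.1)) x x := by
  induction A with
  | nil => simp
  | cons p A ih =>
    by_cases h : p.1.1 = p.1.2.1
    · rw [List.filter_cons_of_pos (by simpa using h), ev_cons, ev_cons, Matrix.add_apply, Matrix.add_apply, ih]
    · rw [List.filter_cons_of_neg (by simpa using h), ev_cons, Matrix.add_apply, ih]
      simp only [mono]
      by_cases h' : p.1.1 < n ∧ p.1.2.1 < n
      · rw [dif_pos h', Matrix.smul_apply, Matrix.single_apply, if_neg, smul_zero, zero_add]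
        rintro ⟨h1, h2⟩
        exact h (congrArg Fin.val (q.injective (h1.trans h2.symm)))
      · rw [dif_neg h']; simp

omit [DecidableEq ι] in
theorem alternating_dot (P : Matrix ι ι F) (h1 : P + Pᵀ = 0) (h2 : ∀ x, P x x = 0) (v : ι → F) :
    v ⬝ᵥ (P *ᵥ v) = 0 := by
  classical
  simp only [dotProduct, Matrix.mulVec, Finset.mul_sum]
  rw [← Finset.sum_product']
  refine Finset.sum_involution (fun p _ => Prod.swap p) (fun p _ => ?_) (fun p _ hp hs => ?_)
    (fun p _ => by simp) (fun p _ => Prod.swap_swap p)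
  · have h := congrFun (congrFun h1 p.1) p.2
    simp only [Matrix.add_apply, Matrix.transpose_apply, Matrix.zero_apply] at h
    simp only [Prod.fst_swap, Prod.snd_swap]
    linear_combination (v p.1 * v p.2) * h
  · obtain ⟨a, b⟩ := p
    simp only [Prod.swap_prod_mk, Prod.mk.injEq] at hs
    obtain ⟨rfl, -⟩ := hs
    exact hp (by simp [h2])

theorem Model.X_isometry {r : ℕ} (h : M.chkIso r = true) (Qf : (ι → F) → F)
    (hQ : ∀ v, Qf v = v ⬝ᵥ (ev q (0 : F) 0 M.formP *ᵥ v)) (s : F) (v : ι → F) :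
    Qf (M.X q r s *ᵥ v) = Qf v := by
  simp only [Model.chkIso, Bool.and_eq_true] at h
  have h1 := ev_eq_of_eqP (q := q) (t := s) (u := (0 : F)) h.1
  have h2 := ev_eq_of_eqP (q := q) (t := s) (u := (0 : F)) h.2
  have hform : ∀ t u : F, ev q t u M.formP = ev q 0 0 M.formP := fun t u => by
    rw [Model.formP]
    induction M.form with
    | nil => rfl
    | cons e l ih =>
      rw [List.map_cons, ev_cons, ev_cons, ih]
      simp [mono]
  rw [ev_norm, ev_append, ev_transP] at h1
  set P := ev q s 0 (norm (mulP M.n (mulP M.n (transP (M.elem r 1 1 0)) M.formP) (M.elem r 1 1 0) ++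
    negP M.formP)) with hP
  have hPd : ∀ x, P x x = 0 := fun x => by
    rw [hP, diag_filter, h2]; simp
  have hPv := alternating_dot P (by simpa using h1) hPd v
  rw [hP, ev_norm, ev_append, ev_negP, ev_mulP, ev_mulP, ev_transP, hform, ← Model.X, Matrix.add_mulVec,
    Matrix.neg_mulVec, dotProduct_add, dotProduct_neg, ← hQ, add_neg_eq_zero] at hPv
  rw [hQ, ← hPv, ← Matrix.mulVec_mulVec, ← Matrix.mulVec_mulVec, Matrix.dotProduct_mulVec v,
    Matrix.vecMul_transpose]

/-- All checks. -/
def Model.chk (D : ChevalleyDatum) : Bool :=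
  ((List.range D.nroots).all fun r => M.chkAdd r && M.chkTor D r && M.chkIso r && decide (D.neg r < D.nroots) &&
    ((List.range D.nroots).all fun s => decide (s = r) || decide (s = D.neg r) ||
      (M.chkComm D r s && (D.commTerms r s).all fun c => decide (c.1 < D.nroots))))

/-- The representation. -/
theorem Model.exists_hom (D : ChevalleyDatum) (h : M.chk D = true) (Qf : (ι → F) → F)
    (hQ : ∀ v, Qf v = v ⬝ᵥ (ev q (0 : F) 0 M.formP *ᵥ v)) :
    ∃ φ : D.SteinbergGroup F →* ↥(Cfsg.isometryGroup F Qf), ∀ (r : ℕ) (t : F), r < D.nroots →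
      (((φ (D.stGen F r t) : ↥(Cfsg.isometryGroup F Qf)) : GL ι F) : Matrix ι ι F) = M.X q r t := by
  simp only [Model.chk, List.all_eq_true, List.mem_range, Bool.and_eq_true, Bool.or_eq_true,
    decide_eq_true_eq] at h
  have hadd : ∀ r < D.nroots, M.chkAdd r = true := fun r hr => (h r hr).1.1.1.1
  have hiso : ∀ r < D.nroots, M.chkIso r = true := fun r hr => (h r hr).1.1.2
  have hneg : ∀ r < D.nroots, D.neg r < D.nroots := fun r hr => (h r hr).1.2
  have hinv : ∀ r, r < D.nroots → ∀ t : F, M.X q r t * M.X q r (-t) = 1 := fun r hr t => by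
    rw [M.X_add q (hadd r hr), add_neg_cancel, M.X_zero q (hadd r hr)]
  let gen : Fin D.nroots × F → ↥(Cfsg.isometryGroup F Qf) := fun p =>
    ⟨⟨M.X q p.1 p.2, M.X q p.1 (-p.2), hinv _ p.1.2 _, by
        have := hinv p.1 p.1.2 (-p.2)
        rwa [neg_neg] at this⟩,
      fun v _ => M.X_isometry q (hiso _ p.1.2) Qf hQ _ v⟩
  let cv : ↥(Cfsg.isometryGroup F Qf) →* Matrix ι ι F :=
    (Units.coeHom (Matrix ι ι F)).comp (Cfsg.isometryGroup F Qf).subtype
  have hcv : Function.Injective cv := fun a b e => Subtype.ext (Units.ext e)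
  have hX : ∀ r (t : F), r < D.nroots → cv (FreeGroup.lift gen (D.stX r t)) = M.X q r t := by
    intro r t hr
    simp [ChevalleyDatum.stX, hr, gen, cv]
  have hXi : ∀ r (t : F), r < D.nroots → cv (FreeGroup.lift gen (D.stX r t))⁻¹ = M.X q r (-t) := by
    intro r t hr
    simp [ChevalleyDatum.stX, hr, gen, cv]
  have hW : ∀ w : List (ℕ × F), (∀ p ∈ w, p.1 < D.nroots) →
      cv (FreeGroup.lift gen (D.stWord w)) = (w.map fun p => M.X q p.1 p.2).prod := by
    intro w hw
    rw [ChevalleyDatum.stWord, map_list_prod, map_list_prod, List.map_map, List.map_map]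
    congr 1
    exact List.map_congr_left fun p hp => hX p.1 p.2 (hw p hp)
  have hrels : ∀ g ∈ D.steinbergRels F, FreeGroup.lift gen g = 1 := by
    intro g hg
    rcases hg with (⟨r, t, u, hr, rfl⟩ | ⟨r, s, t, u, hr, hs, h1, h2, rfl⟩) | ⟨r, t, u, hr, ht, hu, rfl⟩
    · rw [map_mul, map_mul, map_inv, mul_inv_eq_one]
      exact hcv (by rw [map_mul, hX r t hr, hX r u hr, hX r _ hr, M.X_add q (hadd r hr)])
    · obtain ⟨hc, hterms⟩ := ((h r hr).2 s hs).resolve_left (by rintro (e | e); exacts [h1 e, h2 e])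
      rw [map_mul, map_mul, map_mul, map_mul, map_inv, map_inv, map_inv, mul_inv_eq_one]
      refine hcv ?_
      rw [map_mul, map_mul, map_mul, hXi s u hs, hXi r t hr, hX s u hs, hX r t hr, hW]
      · have h' := ev_eq_of_eqP (q := q) (t := t) (u := u) hc
        rw [ev_mulP, ev_mulP, ev_mulP, M.ev_elem, M.ev_elem, M.ev_elem, M.ev_elem, M.ev_wordP] at h'
        simp only [ChevalleyDatum.commWord, List.map_map]
        rw [show ((fun p : ℕ × F => M.X q p.1 p.2) ∘ fun c : ℕ × ℤ × ℕ × ℕ =>
          (c.1, (c.2.1 : F) * (-t) ^ c.2.2.1 * u ^ c.2.2.2)) =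
          fun c => M.X q c.1 ((c.2.1 : F) * (-t) ^ c.2.2.1 * u ^ c.2.2.2) from rfl, ← h']
        simp
      · intro p hp
        obtain ⟨c, hc', rfl⟩ := List.mem_map.1 hp
        exact hterms c hc'
    · have hmem : ∀ s : F, ∀ p ∈ D.hWord r s, p.1 < D.nroots := by
        intro s p hp
        simp [ChevalleyDatum.hWord, ChevalleyDatum.nWord] at hp
        rcases hp with rfl | rfl | rfl | rfl | rfl | rfl <;> first | exact hr | exact hneg r hr
      rw [map_mul, map_mul, map_inv, mul_inv_eq_one]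
      refine hcv ?_
      rw [map_mul, ChevalleyDatum.stH, ChevalleyDatum.stH, ChevalleyDatum.stH, hW _ (hmem t), hW _ (hmem u),
        hW _ (hmem _)]
      have hw : ∀ s : F, ((D.hWord r s).map fun p => M.X q p.1 p.2).prod = M.N q D r s * M.N q D r (-1) := by
        intro s
        simp [ChevalleyDatum.hWord, ChevalleyDatum.nWord, Model.N, mul_assoc]
      rw [hw, hw, hw, M.torus_mul q D (h r hr).1.1.1.2 ht hu]
  refine ⟨PresentedGroup.toGroup hrels, fun r t hr => ?_⟩
  have he : (PresentedGroup.toGroup hrels) (D.stGen F r t) = FreeGroup.lift gen (D.stX r t) := rfl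
  rw [he]
  exact hX r t hr

end Cfsg.Agent.Lib.Classical.RootModel
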