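import Mathlib
import Cfsg.Prelude.Def_Classical

/-!
Reduction of isometries of a split quadratic form by elementary operations on coordinates.
-/

set_option autoImplicit false

namespace Cfsg.Agent.Lib.Classical.RootModel

open Matrix

variable {F : Type*} [Field F] {n : ℕ}

/-- The action on vectors. -/
abbrev act (h : GL (Fin n) F) (v : Fin n → F) : Fin n → F := (h : Matrix (Fin n) (Fin n) F) *ᵥ v

theorem act_mul (a b : GL (Fin n) F) (v : Fin n → F) : act (a * b) v = act a (act b v) := by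
  rw [act, act, act, Units.val_mul, Matrix.mulVec_mulVec]

theorem act_one (v : Fin n → F) : act (1 : GL (Fin n) F) v = v := by simp [act]

theorem act_inj (a : GL (Fin n) F) {u v : Fin n → F} (h : act a u = act a v) : u = v := by
  have := congrArg (act a⁻¹) h
  rwa [← act_mul, ← act_mul, inv_mul_cancel, act_one, act_one] at this

theorem act_smul (a : GL (Fin n) F) (c : F) (v : Fin n → F) : act a (c • v) = c • act a v :=
  Matrix.mulVec_smul _ c v

theorem act_zero (a : GL (Fin n) F) : act a 0 = 0 := Matrix.mulVec_zero _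

/-- The `l`-th basis vector. -/
abbrev bv (l : Fin n) : Fin n → F := Pi.single l 1

/-- `h` fixes the `l`-th basis vector. -/
def Fix (h : GL (Fin n) F) (l : Fin n) : Prop := act h (bv l) = bv l

theorem Fix.mul {a b : GL (Fin n) F} {l : Fin n} (ha : Fix a l) (hb : Fix b l) : Fix (a * b) l := by
  rw [Fix, act_mul, hb, ha]

theorem Fix.one (l : Fin n) : Fix (1 : GL (Fin n) F) l := act_one _

/-- `g` stabilises the line of the `l`-th basis vector. -/
def Line (g : GL (Fin n) F) (l : Fin n) : Prop := ∃ a : F, act g (bv l) = a • bv l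

theorem Line.mul_fix {h g : GL (Fin n) F} {l : Fin n} (hh : Fix h l) (hg : Line g l) : Line (h * g) l := by
  obtain ⟨a, ha⟩ := hg
  exact ⟨a, by rw [act_mul, ha, act_smul, hh]⟩

theorem Line.ne_zero {g : GL (Fin n) F} {l : Fin n} {a : F} (h : act g (bv l) = a • bv l) : a ≠ 0 := by
  rintro rfl
  rw [zero_smul, ← act_zero g] at h
  simpa using congrFun (act_inj g h) l

/-- The matrix of an element stabilising all coordinate lines. -/
theorem exists_diagonal {g : GL (Fin n) F} (h : ∀ l, Line g l) :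
    ∃ d : Fin n → F, (g : Matrix (Fin n) (Fin n) F) = Matrix.diagonal d := by
  choose d hd using h
  refine ⟨d, Matrix.ext_of_mulVec_single fun l => ?_⟩
  rw [show (g : Matrix (Fin n) (Fin n) F) *ᵥ Pi.single l 1 = d l • Pi.single l 1 from hd l]
  funext x
  simp [Matrix.mulVec_diagonal, Pi.single_apply]
  aesop

/-- A split form with a subgroup containing the elementary operations. -/
structure Frame (F : Type*) [Field F] (n : ℕ) where
  Qf : (Fin n → F) → F
  bar : Fin n → Fin n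
  E : Subgroup (GL (Fin n) F)
  hb : ∀ i, bar (bar i) = i
  h0 : Qf 0 = 0
  hpol : ∀ l, bar l ≠ l → ∀ (v : Fin n → F) (c : F), Qf (v + c • bv l) = Qf v + c * v (bar l)
  hE : E ≤ Cfsg.isometryGroup F Qf
  op : ∀ i j, bar i ≠ i → bar j ≠ j → i ≠ j → i ≠ bar j → ∀ c : F, ∃ h ∈ E,
    (∀ v, act h v i = v i + c * v j) ∧ ∀ l, l ≠ j → l ≠ bar i → Fix h l

namespace Frame

variable (W : Frame F n)

theorem iso {g : GL (Fin n) F} (hg : g ∈ Cfsg.isometryGroup F W.Qf) (v : Fin n → F) :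
    W.Qf (act g v) = W.Qf v := hg v v

theorem iso_of_mem {g : GL (Fin n) F} (hg : g ∈ W.E) (v : Fin n → F) : W.Qf (act g v) = W.Qf v :=
  W.iso (W.hE hg) v

theorem smul_bv {l : Fin n} (hl : W.bar l ≠ l) (c : F) : W.Qf (c • bv l) = 0 := by
  have := W.hpol l hl 0 c
  rwa [zero_add, W.h0, zero_add, Pi.zero_apply, mul_zero] at this

theorem bar_ne {l : Fin n} (hl : W.bar l ≠ l) : W.bar (W.bar l) ≠ W.bar l := by
  rw [W.hb]; exact Ne.symm hl

theorem coord_of_line {g : GL (Fin n) F} (hg : g ∈ Cfsg.isometryGroup F W.Qf) {l : Fin n}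
    (hl : W.bar l ≠ l) {a : F} (ha : act g (bv l) = a • bv l) (v : Fin n → F) :
    a * act g v (W.bar l) = v (W.bar l) := by
  have h1 := W.iso hg (v + (1 : F) • bv l)
  rw [act, Matrix.mulVec_add, Matrix.mulVec_smul, ← act, ← act, ha, one_smul, W.hpol l hl,
    W.iso hg] at h1
  rw [W.hpol l hl, one_mul] at h1
  exact add_left_cancel h1

theorem coord_of_fix {g : GL (Fin n) F} (hg : g ∈ W.E) {l : Fin n}
    (hl : W.bar l ≠ l) (hf : Fix g l) (v : Fin n → F) : act g v (W.bar l) = v (W.bar l) := by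
  have := W.coord_of_line (W.hE hg) hl (a := 1) (by rw [one_smul]; exact hf) v
  rwa [one_mul] at this

theorem coord_of_fix' {g : GL (Fin n) F} (hg : g ∈ W.E) {i : Fin n}
    (hi : W.bar i ≠ i) (hf : Fix g (W.bar i)) (v : Fin n → F) : act g v i = v i := by
  have := W.coord_of_fix hg (W.bar_ne hi) hf v
  rwa [W.hb] at this

/-- Clear coordinates with a non-zero coordinate. -/
theorem clear {k : Fin n} (hk : W.bar k ≠ k) (v : Fin n → F) (hv : v k ≠ 0) (T : Finset (Fin n)) :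
    (∀ i ∈ T, W.bar i ≠ i ∧ i ≠ k ∧ i ≠ W.bar k) → ∃ h ∈ W.E, (∀ i ∈ T, act h v i = 0) ∧
      ∀ l, l ≠ k → W.bar l ∉ T → Fix h l := by
  induction T using Finset.induction with
  | empty => exact fun _ => ⟨1, one_mem _, by simp, fun l _ _ => Fix.one l⟩
  | insert i T hiT ih =>
    intro hT
    obtain ⟨h, hh, hz, hfix⟩ := ih fun x hx => hT x (Finset.mem_insert_of_mem hx)
    obtain ⟨hi, hik, hik'⟩ := hT i (Finset.mem_insert_self i T)
    set w := act h v
    have hwk : w k = v k := by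
      refine W.coord_of_fix' hh hk (hfix _ hk ?_) v
      rw [W.hb]
      exact fun hc => (hT k (Finset.mem_insert_of_mem hc)).2.1 rfl
    obtain ⟨o, ho, hoi, hofix⟩ := W.op i k hi hk hik hik' (-(w i) / v k)
    refine ⟨o * h, mul_mem ho hh, fun x hx => ?_, fun l hlk hl => ?_⟩
    · rw [act_mul]
      rcases Finset.mem_insert.1 hx with rfl | hxT
      · show act o w x = 0
        rw [hoi, hwk, div_mul_cancel₀ _ hv, add_neg_cancel]
      · obtain ⟨hxb, hxk, hxk'⟩ := hT x hx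
        rw [W.coord_of_fix' ho hxb (hofix _ ?_ ?_) w]
        · exact hz x hxT
        · exact fun e => hxk' (by rw [← W.hb x, e])
        · intro e
          have : x = i := by rw [← W.hb x, e, W.hb]
          exact hiT (this ▸ hxT)
    · rw [Finset.mem_insert, not_or] at hl
      exact (hofix l hlk fun e => hl.1 (by rw [e, W.hb])).mul (hfix l hlk hl.2)

/-- The part of `S` that is moved, and what has to be known about it. -/
structure Stage (S : Finset (Fin n)) (k : Fin n) : Prop where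
  mem : k ∈ S
  hk : W.bar k ≠ k
  stab : ∀ l ∈ S, W.bar l ∈ S
  out : ∀ l, l ∉ S → W.bar l ≠ l
  clean : ∀ m, (m = k ∨ m = W.bar k) → ∀ v : Fin n → F, v m ≠ 0 → ∃ h ∈ W.E,
    (∀ z ∈ S, W.bar z = z → act h v z = 0) ∧ ∀ l, l ≠ m → W.bar l ≠ l → Fix h l
  lift : ∀ v : Fin n → F, (∀ l, l ∉ S → v l = 0) → v ≠ 0 → W.Qf v = 0 → ∃ h ∈ W.E,
    act h v k ≠ 0 ∧ ∀ l, l ∉ S → Fix h l

variable {W} {S : Finset (Fin n)} {k : Fin n}

theorem Stage.stab' (hS : W.Stage S k) {l : Fin n} (hl : l ∉ S) : W.bar l ∉ S := fun h => hl (by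
  have := hS.stab _ h
  rwa [W.hb] at this)

theorem Stage.supp (hS : W.Stage S k) {g : GL (Fin n) F} (hg : g ∈ Cfsg.isometryGroup F W.Qf)
    (hline : ∀ l, l ∉ S → Line g l) (v : Fin n → F) (hv : ∀ l, l ∉ S → v l = 0) :
    ∀ l, l ∉ S → act g v l = 0 := by
  intro l hl
  obtain ⟨a, ha⟩ := hline _ (hS.stab' hl)
  have h := W.coord_of_line hg (W.bar_ne (hS.out l hl)) ha v
  rw [W.hb, hv l hl] at h
  exact (mul_eq_zero.1 h).resolve_left (Line.ne_zero ha)

theorem Stage.norm (hS : W.Stage S k) {m : Fin n} (hm : m = k ∨ m = W.bar k) (v : Fin n → F)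
    (hsup : ∀ l, l ∉ S → v l = 0) (hQ : W.Qf v = 0) (hv : v m ≠ 0) :
    ∃ h ∈ W.E, act h v = v m • bv m ∧ ∀ l, (l ∉ S ∨ l = W.bar m) → Fix h l := by
  have hmb : W.bar m ≠ m := by
    rcases hm with rfl | rfl
    exacts [hS.hk, W.bar_ne hS.hk]
  have hmS : m ∈ S := by
    rcases hm with rfl | rfl
    exacts [hS.mem, hS.stab _ hS.mem]
  obtain ⟨h1, hh1, hz1, hf1⟩ := W.clear hmb v hv
    (S.filter fun i => W.bar i ≠ i ∧ i ≠ m ∧ i ≠ W.bar m) (fun i hi => (Finset.mem_filter.1 hi).2)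
  have hw1 : act h1 v m = v m := by
    refine W.coord_of_fix' hh1 hmb (hf1 _ hmb fun h => ?_) v
    rw [W.hb] at h
    exact (Finset.mem_filter.1 h).2.2.1 rfl
  obtain ⟨h2, hh2, hz2, hf2⟩ := hS.clean m hm (act h1 v) (hw1.symm ▸ hv)
  have hfix : ∀ l, (l ∉ S ∨ l = W.bar m) → Fix (h2 * h1) l := by
    intro l hl
    have hlm : l ≠ m := by
      rcases hl with hl | rfl
      exacts [fun e => hl (e ▸ hmS), hmb]
    refine (hf2 l hlm ?_).mul (hf1 l hlm fun h => ?_)
    · rcases hl with hl | rfl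
      exacts [hS.out l hl, W.bar_ne hmb]
    · obtain ⟨hbS, -, hbm, -⟩ := Finset.mem_filter.1 h
      rcases hl with hl | rfl
      exacts [hS.stab' hl hbS, hbm (W.hb m)]
  set w := act (h2 * h1) v with hw
  have hwm : w m = v m := W.coord_of_fix' (mul_mem hh2 hh1) hmb (hfix _ (Or.inr rfl)) v
  have hw0 : ∀ l, l ≠ m → l ≠ W.bar m → w l = 0 := by
    intro l hlm hlm'
    by_cases hlS : l ∈ S
    · by_cases hlb : W.bar l = l
      · rw [hw, act_mul]
        exact hz2 l hlS hlb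
      · rw [hw, act_mul, W.coord_of_fix' hh2 hlb (hf2 _ (fun e => hlm' (by rw [← W.hb l, e]))
          (W.bar_ne hlb))]
        exact hz1 l (Finset.mem_filter.2 ⟨hlS, hlb, hlm, hlm'⟩)
    · rw [hw, W.coord_of_fix' (mul_mem hh2 hh1) (hS.out l hlS) (hfix _ (Or.inl (hS.stab' hlS))) v]
      exact hsup l hlS
  have hwe : w = v m • bv m + w (W.bar m) • bv (W.bar m) := by
    funext l
    simp only [Pi.add_apply, Pi.smul_apply, Pi.single_apply, smul_eq_mul]
    by_cases h1 : l = m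
    · subst h1
      rw [if_pos rfl, if_neg (Ne.symm hmb), mul_one, mul_zero, add_zero, hwm]
    · by_cases h2 : l = W.bar m
      · subst h2
        rw [if_neg hmb, if_pos rfl, mul_one, mul_zero, zero_add]
      · rw [if_neg h1, if_neg h2, mul_zero, mul_zero, add_zero, hw0 l h1 h2]
  have hQw : W.Qf w = 0 := by rw [hw, W.iso_of_mem (mul_mem hh2 hh1), hQ]
  rw [hwe, W.hpol _ (W.bar_ne hmb), W.smul_bv hmb, zero_add, W.hb, Pi.smul_apply,
    smul_eq_mul, show bv (F := F) m m = 1 from Pi.single_eq_same _ _, mul_one] at hQw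
  refine ⟨h2 * h1, mul_mem hh2 hh1, ?_, hfix⟩
  show w = _
  rw [hwe, (mul_eq_zero.1 hQw).resolve_right hv, zero_smul, add_zero]

theorem Stage.reduce (hS : W.Stage S k) {g : GL (Fin n) F} (hg : g ∈ Cfsg.isometryGroup F W.Qf)
    (hline : ∀ l, l ∉ S → Line g l) :
    ∃ h ∈ W.E, ∀ l, (l ∉ S ∨ l = k ∨ l = W.bar k) → Line (h * g) l := by
  have hk' : W.bar k ≠ k := hS.hk
  have hbvS : ∀ x ∈ S, ∀ l, l ∉ S → bv (F := F) x l = 0 := fun x hx l hl =>
    Pi.single_eq_of_ne (M := fun _ => F) (fun e => hl (by rw [e]; exact hx)) 1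
  set v := act g (bv k) with hv
  have hQk : ∀ x, W.bar x ≠ x → W.Qf (bv x) = 0 := fun x hx => by
    simpa using W.smul_bv hx (1 : F)
  have hQv : W.Qf v = 0 := by rw [hv, W.iso hg, hQk k hk']
  have hv0 : v ≠ 0 := fun h => by
    have := act_inj g (h.trans (act_zero g).symm)
    simpa using congrFun this k
  obtain ⟨h1, hh1, hne, hf1⟩ := hS.lift v (hS.supp hg hline _ (hbvS k hS.mem)) hv0 hQv
  have hg1 : h1 * g ∈ Cfsg.isometryGroup F W.Qf := mul_mem (W.hE hh1) hg
  have hl1 : ∀ l, l ∉ S → Line (h1 * g) l := fun l hl => (hline l hl).mul_fix (hf1 l hl)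
  have hs1 := hS.supp hg1 hl1 _ (hbvS k hS.mem)
  obtain ⟨h2, hh2, he2, hf2⟩ := hS.norm (Or.inl rfl) (act (h1 * g) (bv k)) hs1
    (by rw [W.iso hg1, hQk k hk']) (by rw [act_mul]; exact hne)
  have hg2 : h2 * h1 * g ∈ Cfsg.isometryGroup F W.Qf := mul_mem (mul_mem (W.hE hh2) (W.hE hh1)) hg
  have hl2 : ∀ l, l ∉ S → Line (h2 * h1 * g) l := fun l hl => by
    rw [mul_assoc]; exact (hl1 l hl).mul_fix (hf2 l (Or.inl hl))
  have hek : act (h2 * h1 * g) (bv k) = act (h1 * g) (bv k) k • bv k := by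
    rw [mul_assoc, act_mul, he2]
  have hlk : Line (h2 * h1 * g) k := ⟨_, hek⟩
  have hs2 := hS.supp hg2 hl2 _ (hbvS _ (hS.stab k hS.mem))
  have hu : act (h2 * h1 * g) (bv (W.bar k)) (W.bar k) ≠ 0 := by
    intro h
    have := W.coord_of_line hg2 hk' hek (bv (W.bar k))
    rw [h, mul_zero, show bv (F := F) (W.bar k) (W.bar k) = 1 from Pi.single_eq_same _ _] at this
    exact zero_ne_one this
  obtain ⟨h3, hh3, he3, hf3⟩ := hS.norm (Or.inr rfl) _ hs2
    (by rw [W.iso hg2, hQk _ (W.bar_ne hk')]) hu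
  refine ⟨h3 * (h2 * h1), mul_mem hh3 (mul_mem hh2 hh1), fun l hl => ?_⟩
  rw [mul_assoc]
  rcases hl with hl | rfl | rfl
  · exact (hl2 l hl).mul_fix (hf3 l (Or.inl hl))
  · exact hlk.mul_fix (hf3 l (Or.inr (W.hb l).symm))
  · exact ⟨_, by rw [act_mul, he3]⟩

end Frame

open scoped commutatorElement in
/-- The commutator subgroup lies in `E` when `G = E {1, s} T` with `E` normalised and the images commuting. -/
theorem commutator_le_of_cover {G : Type*} [Group G] (E : Subgroup G) (T : Set G) (s : G)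
    (hgen : ∀ g : G, ∃ e ∈ E, ∃ t ∈ T, g = e * t ∨ g = e * (s * t))
    (hnT : ∀ t ∈ T, ∀ x ∈ E, t * x * t⁻¹ ∈ E) (hns : ∀ x ∈ E, s * x * s⁻¹ ∈ E)
    (hTT : ∀ t ∈ T, ∀ u ∈ T, ⁅t, u⁆ ∈ E) (hsT : ∀ t ∈ T, ⁅s, t⁆ ∈ E) : commutator G ≤ E := by
  have hN : E.Normal := ⟨fun x hx g => by
    obtain ⟨e, he, t, ht, rfl | rfl⟩ := hgen g
    · rw [show e * t * x * (e * t)⁻¹ = e * (t * x * t⁻¹) * e⁻¹ by group]
      exact mul_mem (mul_mem he (hnT t ht x hx)) (inv_mem he)
    · rw [show e * (s * t) * x * (e * (s * t))⁻¹ = e * (s * (t * x * t⁻¹) * s⁻¹) * e⁻¹ by group]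
      exact mul_mem (mul_mem he (hns _ (hnT t ht x hx))) (inv_mem he)⟩
  let π := QuotientGroup.mk' E
  have comm : ∀ a b : G, ⁅a, b⁆ ∈ E → Commute (π a) (π b) := fun a b h => by
    rw [← commutatorElement_eq_one_iff_commute, ← map_commutatorElement]
    exact (QuotientGroup.eq_one_iff _).2 h
  rw [commutator_def, Subgroup.commutator_le]
  intro a _ b _
  refine (QuotientGroup.eq_one_iff _).1 ?_
  show π ⁅a, b⁆ = 1
  rw [map_commutatorElement, commutatorElement_eq_one_iff_commute]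
  have he1 : ∀ e ∈ E, π e = 1 := fun e he => (QuotientGroup.eq_one_iff _).2 he
  have key : ∀ g, ∃ t ∈ T, π g = π t ∨ π g = π s * π t := fun g => by
    obtain ⟨e, he, t, ht, rfl | rfl⟩ := hgen g
    · exact ⟨t, ht, Or.inl (by rw [map_mul, he1 e he, one_mul])⟩
    · exact ⟨t, ht, Or.inr (by rw [map_mul, he1 e he, one_mul, map_mul])⟩
  obtain ⟨t, ht, ha⟩ := key a
  obtain ⟨u, hu, hb⟩ := key b
  have h1 := comm t u (hTT t ht u hu)
  have h2 := comm s t (hsT t ht)
  have h3 := comm s u (hsT u hu)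
  rcases ha with ha | ha <;> rcases hb with hb | hb <;> rw [ha, hb]
  · exact h1
  · exact h2.symm.mul_right h1
  · exact h3.mul_left h1
  · exact ((Commute.refl _).mul_right h3).mul_left (h2.symm.mul_right h1)

end Cfsg.Agent.Lib.Classical.RootModel
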