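import Cfsg.Agent.Lib.Classical.RootModel.GenD4
import Cfsg.Agent.Lib.Classical.RootModel.DataB2

/-!
The root elements of type B2 generate a subgroup containing the commutator subgroup of `O₅`.
-/

set_option autoImplicit false

namespace Cfsg.Agent.Lib.Classical.RootModel

open Cfsg.Lie
open scoped Matrix commutatorElement

variable {F : Type*} [Field F]

/-- The split form in five variables. -/
def formFive (F : Type*) [Field F] (v : Fin 5 → F) : F := v 0 ^ 2 + v 1 * v 3 + v 2 * v 4

/-- The opposite coordinate. -/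
def barFive (i : Fin 5) : Fin 5 := ![0, 3, 4, 1, 2] i

theorem barFive_bar (i : Fin 5) : barFive (barFive i) = i := by revert i; decide

theorem barFive_ne {i : Fin 5} (h : i ≠ 0) : barFive i ≠ i := by revert h i; decide

theorem barFive_zero {i : Fin 5} (h : barFive i ≠ i) : i ≠ 0 := by revert h i; decide

/-- The identification of the coordinates. -/
abbrev qFive : Fin modelB2.n ≃ Fin 5 := Equiv.refl (Fin 5)

theorem opsB2 : ∀ i j : Fin 5, i ≠ 0 → j ≠ 0 → i ≠ j → i ≠ barFive j →
    modelB2.chkSearch 8 i.val [((i.val, i.val, 0, 0), 1), ((i.val, j.val, 1, 0), 1)]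
      (((List.finRange 5).filter fun l => decide (l ≠ j ∧ l ≠ barFive i)).map Fin.val) = true := by
  decide +kernel

theorem zopsB2 : ∀ k : Fin 5, k ≠ 0 →
    modelB2.chkSearch 8 (0 : Fin 5).val
      [(((0 : Fin 5).val, (0 : Fin 5).val, 0, 0), 1), (((0 : Fin 5).val, k.val, 1, 0), 1)]
      (((List.finRange 5).filter fun l => decide (l ≠ k ∧ l ≠ 0)).map Fin.val) = true := by
  decide +kernel

theorem liftsB2 : ∀ k : Fin 5, k ≠ 0 →
    modelB2.chkSearch 8 k.val
      [((k.val, k.val, 0, 0), 1), ((k.val, 0, 1, 0), -2), ((k.val, (barFive k).val, 2, 0), -1)]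
      (((List.finRange 5).filter fun l => decide (l ≠ barFive k ∧ l ≠ 0)).map Fin.val) = true := by
  decide +kernel

theorem formFive_dot (v : Fin 5 → F) : formFive F v = v ⬝ᵥ (ev qFive (0 : F) 0 modelB2.formP *ᵥ v) := by
  simp [formFive, qFive, Model.formP, modelB2, ev_cons, mono, Matrix.add_mulVec, Matrix.single_mulVec,
    dotProduct, Fin.sum_univ_five, sq]

section
variable (φ : chevB2.SteinbergGroup F →* ↥(Cfsg.isometryGroup F (formFive F)))

/-- The image as a frame. -/
def frameB2 (hφ : ∀ (r : ℕ) (t : F), r < chevB2.nroots →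
    (((φ (chevB2.stGen F r t) : ↥(Cfsg.isometryGroup F (formFive F))) : GL (Fin 5) F) :
      Matrix (Fin 5) (Fin 5) F) = modelB2.X qFive r t) : Frame F 5 where
  Qf := formFive F
  bar := barFive
  E := φ.range.map (Cfsg.isometryGroup F (formFive F)).subtype
  hb := barFive_bar
  h0 := by simp [formFive]
  hpol := fun l hl v c => by
    fin_cases l
    · exact absurd rfl hl
    all_goals (simp [formFive, barFive, Pi.single_apply]; ring)
  hE := by
    rintro _ ⟨x, -, rfl⟩
    exact x.2
  op := fun i j hi hj h1 h2 c => by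
    obtain ⟨g, hg, hrow, hfix⟩ := modelB2.search_sound qFive (fun _ => rfl)
      (E := φ.range.map (Cfsg.isometryGroup F (formFive F)).subtype) (N := 8)
      (fun r hr t => ⟨_, ⟨_, ⟨_, rfl⟩, rfl⟩, hφ r t hr⟩) (opsB2 i j (barFive_zero hi) (barFive_zero hj) h1 h2) c
    refine ⟨g, hg, fun v => ?_, fun l hl hl' => hfix l ?_⟩
    · rw [hrow v]; exact ev_two_row modelB2 (q := qFive) (fun _ => rfl) i j c v
    · exact List.mem_map.2 ⟨l, List.mem_filter.2 ⟨List.mem_finRange _, by simp [hl, hl']⟩, rfl⟩

end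

theorem commutator_le_rangeB2 (φ : chevB2.SteinbergGroup F →* ↥(Cfsg.isometryGroup F (formFive F)))
    (hφ : ∀ (r : ℕ) (t : F), r < chevB2.nroots →
    (((φ (chevB2.stGen F r t) : ↥(Cfsg.isometryGroup F (formFive F))) : GL (Fin 5) F) :
      Matrix (Fin 5) (Fin 5) F) = modelB2.X qFive r t) :
    commutator ↥(Cfsg.isometryGroup F (formFive F)) ≤ φ.range := by
  classical
  set W := frameB2 φ hφ with hW
  have hbar : ∀ l : Fin 5, l ≠ 0 → W.bar l ≠ l := fun l hl => barFive_ne hl
  have hXE : ∀ r, r < 8 → ∀ t : F, ∃ h ∈ W.E, (h : Matrix (Fin 5) (Fin 5) F) = modelB2.X qFive r t :=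
    fun r hr t => ⟨_, ⟨_, ⟨_, rfl⟩, rfl⟩, hφ r t hr⟩
  have clean : ∀ m : Fin 5, m ≠ 0 → ∀ (v : Fin 5 → F), v m ≠ 0 → ∀ S : Finset (Fin 5), ∃ h ∈ W.E,
      (∀ z ∈ S, W.bar z = z → act h v z = 0) ∧ ∀ l, l ≠ m → W.bar l ≠ l → Fix h l := by
    intro m hm v hv S
    obtain ⟨g, hg, hrow, hfix⟩ := modelB2.search_sound qFive (fun _ => rfl) hXE (zopsB2 m hm) (-(v 0) / v m)
    refine ⟨g, hg, fun z _ hz => ?_, fun l hl hl' => hfix l ?_⟩
    · obtain rfl : z = 0 := by
        by_contra h
        exact hbar z h hz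
      rw [hrow v, ev_two_row modelB2 (q := qFive) (fun _ => rfl) 0 m _ v, div_mul_cancel₀ _ hv,
        add_neg_cancel]
    · exact List.mem_map.2 ⟨l, List.mem_filter.2 ⟨List.mem_finRange _,
        by simp [hl, barFive_zero hl']⟩, rfl⟩
  have s1 : W.Stage Finset.univ 1 := by
    refine ⟨Finset.mem_univ _, hbar 1 (by decide), fun l _ => Finset.mem_univ _,
      fun l hl => absurd (Finset.mem_univ l) hl, fun m hm v hv => ?_, fun v _ hv0 hQ => ?_⟩
    · refine clean m ?_ v hv _
      rcases hm with rfl | rfl <;> [decide; (rw [hW]; simp [frameB2, barFive])]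
    · refine W.lift_pairs (j := 2) (hbar 1 (by decide)) (Finset.mem_univ _) (Finset.mem_univ _)
        (fun l _ => Finset.mem_univ _) (Finset.mem_univ _) (hbar 2 (by decide)) (by decide) (by
          rw [hW]; simp [frameB2, barFive]) v ?_
      by_contra hcon
      push Not at hcon
      have hz : ∀ l : Fin 5, l ≠ 0 → v l = 0 := fun l hl => hcon l (Finset.mem_univ _) (hbar l hl)
      refine hv0 (funext fun l => ?_)
      by_cases hl : l = 0
      · subst hl
        have : formFive F v = 0 := hQ
        rw [formFive, hz 1 (by decide), hz 2 (by decide)] at this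
        simpa using this
      · exact hz l hl
  have s2 : W.Stage {0, 2, 4} 2 := by
    refine ⟨by decide, hbar 2 (by decide), fun l hl => ?_, fun l hl => hbar l ?_,
      fun m hm v hv => ?_, fun v hv hv0 hQ => ?_⟩
    · show barFive l ∈ _
      revert hl l; decide
    · revert hl l; decide
    · refine clean m ?_ v hv _
      rcases hm with rfl | rfl <;> [decide; (rw [hW]; simp [frameB2, barFive])]
    · by_cases h2 : v 2 = 0
      swap
      · exact ⟨1, one_mem _, by rwa [act_one], fun x _ => Fix.one x⟩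
      have hQ' : formFive F v = 0 := hQ
      rw [formFive, hv 1 (by decide), hv 3 (by decide), h2] at hQ'
      have h0 : v 0 = 0 := by simpa using hQ'
      have h4 : v 4 ≠ 0 := fun h4 => hv0 (funext fun l => by
        fin_cases l <;> first | exact h0 | exact h2 | exact h4 | exact hv _ (by decide))
      obtain ⟨g, hg, hrow, hfix⟩ := modelB2.search_sound qFive (fun _ => rfl) hXE (liftsB2 2 (by decide)) (1 : F)
      refine ⟨g, hg, ?_, fun l hl => hfix l ?_⟩
      · rw [hrow v]
        simpa [qFive, modelB2, ev_cons, mono, Matrix.add_mulVec, Matrix.neg_mulVec, Matrix.single_mulVec, barFive, h0, h2]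
          using h4
      · refine List.mem_map.2 ⟨l, List.mem_filter.2 ⟨List.mem_finRange _, ?_⟩, rfl⟩
        revert hl l; decide
  let T : Set ↥(Cfsg.isometryGroup F (formFive F)) :=
    {g | ∃ d, ((g : GL (Fin 5) F) : Matrix (Fin 5) (Fin 5) F) = Matrix.diagonal d}
  have hline' : ∀ (g : ↥(Cfsg.isometryGroup F (formFive F))) (d : Fin 5 → F),
      ((g : GL (Fin 5) F) : Matrix (Fin 5) (Fin 5) F) = Matrix.diagonal d →
      ∀ x, act (g : GL (Fin 5) F) (bv x) = d x • bv x := by
    intro g d hd x
    rw [act, hd, Matrix.mulVec_single_one]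
    funext a
    simp [Matrix.diagonal_apply, Pi.single_apply]
    aesop
  have hdinv : ∀ (g : ↥(Cfsg.isometryGroup F (formFive F))) (d : Fin 5 → F),
      ((g : GL (Fin 5) F) : Matrix (Fin 5) (Fin 5) F) = Matrix.diagonal d →
      d 1 * d 3 = 1 ∧ d 2 * d 4 = 1 ∧ d 0 * d 0 = 1 := by
    intro g d hd
    have hline := hline' g d hd
    have h : ∀ l : Fin 5, l ≠ 0 → d l * d (barFive l) = 1 := fun l hl => by
      have h := W.coord_of_line g.2 (hbar l hl) (hline l) (bv (barFive l))
      rw [hline] at h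
      simpa [hW, frameB2] using h
    refine ⟨h 1 (by decide), h 2 (by decide), ?_⟩
    have h0 : formFive F (act (g : GL (Fin 5) F) (bv 0)) = formFive F (bv (F := F) 0) := W.iso g.2 _
    rw [hline] at h0
    simpa [formFive, sq] using h0
  refine commutator_le_of_cover φ.range T 1 (fun g => ?_) (fun t ht => ?_) (by simp) (fun t ht u hu => ?_)
    (fun t _ => by rw [commutatorElement_one_left]; exact one_mem _)
  · -- generation
    obtain ⟨h1, hh1, hl1⟩ := s1.reduce g.2 (fun l hl => absurd (Finset.mem_univ l) hl)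
    have hg1 : h1 * (g : GL (Fin 5) F) ∈ Cfsg.isometryGroup F W.Qf := mul_mem (W.hE hh1) g.2
    obtain ⟨h2, hh2, hl2⟩ := s2.reduce hg1 (fun l hl => hl1 l (by
      revert hl; revert l; simp only [hW, frameB2]; decide))
    set g2 := h2 * (h1 * (g : GL (Fin 5) F)) with hg2'
    have hg2 : g2 ∈ Cfsg.isometryGroup F W.Qf := mul_mem (W.hE hh2) hg1
    have hlines : ∀ l : Fin 5, l ≠ 0 → Line g2 l := fun l hl => hl2 l (by
      revert hl; revert l; simp only [hW, frameB2]; decide)
    have h00 : Line g2 0 := by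
      refine ⟨act g2 (bv 0) 0, ?_⟩
      funext l
      by_cases hl : l = 0
      · subst hl; simp
      · obtain ⟨c, hc⟩ := hlines (barFive l) (by revert hl l; decide)
        have hb : W.bar (barFive l) ≠ barFive l := hbar _ (by clear hc; revert hl l; decide)
        have h := W.coord_of_line hg2 hb hc (bv 0)
        rw [show W.bar (barFive l) = l from barFive_bar l, show bv (F := F) (0 : Fin 5) l = 0 from
          Pi.single_eq_of_ne hl 1] at h
        rw [(mul_eq_zero.1 h).resolve_left (Line.ne_zero hc)]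
        simp [Pi.single_eq_of_ne hl]
    obtain ⟨d, hd⟩ := exists_diagonal (g := g2) fun l => if hl : l = 0 then hl ▸ h00 else hlines l hl
    obtain ⟨e, he, hee⟩ : h2 * h1 ∈ W.E := mul_mem hh2 hh1
    replace hee : (e : GL (Fin 5) F) = h2 * h1 := hee
    have heg : ((e * g : ↥(Cfsg.isometryGroup F (formFive F))) : GL (Fin 5) F) = g2 := by
      rw [Subgroup.coe_mul, hee, hg2']; group
    exact ⟨e⁻¹, inv_mem he, e * g, ⟨d, by rw [heg, hd]⟩, Or.inl (by group)⟩
  · -- torus normalises
    obtain ⟨d, hd⟩ := ht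
    obtain ⟨h13, h24, h00⟩ := hdinv t d hd
    let lam : Fin 8 → F :=
      ![d 3 * d 4, d 3 * d 0, d 4 * d 0, d 3 * d 2, d 1 * d 4, d 2 * d 0, d 1 * d 0, d 1 * d 2]
    refine conj_range φ t fun r hr u => ?_
    refine ⟨chevB2.stGen F r (lam ⟨r, hr⟩ * u), mul_inv_eq_iff_eq_mul.2 ?_ |>.symm⟩
    refine Subtype.ext (Units.ext ?_)
    simp only [Subgroup.coe_mul, Units.val_mul]
    rw [hφ r _ hr, hφ r _ hr, hd]
    refine modelB2.diag_conj qFive (fun _ => rfl) ?_ u
    have key : ∀ r : Fin 8, ∀ e ∈ modelB2.mv r.val, ∀ (h1 : e.1 < 5) (h2 : e.2.1 < 5),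
        d ⟨e.1, h1⟩ = lam r ^ e.2.2.2 * d ⟨e.2.1, h2⟩ := by
      intro r e he h1 h2
      fin_cases r <;> simp [Model.mv, modelB2] at he <;> rcases he with rfl | rfl | rfl <;> simp [lam] <;>
        first
        | linear_combination (-(d 3)) * h13
        | linear_combination (-(d 4)) * h24
        | linear_combination (-(d 1)) * h13
        | linear_combination (-(d 2)) * h24
        | linear_combination (-(d 3)) * h00
        | linear_combination (-(d 4)) * h00
        | linear_combination (-(d 1)) * h00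
        | linear_combination (-(d 2)) * h00
        | linear_combination (-(d 4)) * h13
        | linear_combination (-(d 2)) * h13
        | linear_combination (-(d 3)) * h24
        | linear_combination (-(d 1)) * h24
        | linear_combination (-(d 0)) * h13
        | linear_combination (-(d 0)) * h24
        | linear_combination (-(d 3) * d 0 * d 0) * h13 - d 3 * h00
        | linear_combination (-(d 4) * d 0 * d 0) * h24 - d 4 * h00
        | linear_combination (-(d 1) * d 0 * d 0) * h13 - d 1 * h00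
        | linear_combination (-(d 2) * d 0 * d 0) * h24 - d 2 * h00
    intro e he a b ha hb
    have h := key ⟨r, hr⟩ e he (ha ▸ a.2) (hb ▸ b.2)
    rwa [show (⟨e.1, ha ▸ a.2⟩ : Fin 5) = a from Fin.ext ha.symm,
      show (⟨e.2.1, hb ▸ b.2⟩ : Fin 5) = b from Fin.ext hb.symm] at h
  · obtain ⟨d, hd⟩ := ht
    obtain ⟨e, he⟩ := hu
    have : t * u = u * t := Subtype.ext (Units.ext (by
      simp only [Subgroup.coe_mul, Units.val_mul]
      rw [hd, he, Matrix.diagonal_mul_diagonal, Matrix.diagonal_mul_diagonal]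
      simp [mul_comm]))
    rw [commutatorElement_eq_one_iff_commute.2 this]
    exact one_mem _

end Cfsg.Agent.Lib.Classical.RootModel
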