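import Cfsg.Agent.Lib.Classical.RootModel.Engine
import Cfsg.Agent.Lib.Classical.RootModel.Gen

/-!
Elementary operations found among the root elements of a model, and conjugation of root elements by
monomial matrices.
-/

set_option autoImplicit false

namespace Cfsg.Agent.Lib.Classical.RootModel

open Cfsg.Lie
open scoped Matrix

variable (M : Model) {F : Type*} [Field F] {n : ℕ} (q : Fin M.n ≃ Fin n)

theorem row_filter {q : Fin M.n ≃ Fin n} {t u : F} (hq : ∀ a, (q a).val = a.val) (A : PMat) (i : ℕ)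
    (a b : Fin n) (ha : a.val = i) :
    ev q t u A a b = ev q t u (A.filter fun p => decide (p.1.1 = i)) a b := by
  induction A with
  | nil => simp
  | cons p A ih =>
    by_cases h : p.1.1 = i
    · rw [List.filter_cons_of_pos (by simpa using h), ev_cons, ev_cons, Matrix.add_apply, Matrix.add_apply, ih]
    · rw [List.filter_cons_of_neg (by simpa using h), ev_cons, Matrix.add_apply, ih]
      simp only [mono]
      by_cases h' : p.1.1 < M.n ∧ p.1.2.1 < M.n
      · rw [dif_pos h', Matrix.smul_apply, Matrix.single_apply, if_neg, smul_zero, zero_add]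
        rintro ⟨h1, -⟩
        apply h
        rw [← ha, ← h1, hq]
      · rw [dif_neg h']; simp

theorem col_filter {q : Fin M.n ≃ Fin n} {t u : F} (hq : ∀ a, (q a).val = a.val) (A : PMat) (l : ℕ)
    (a b : Fin n) (hb : b.val = l) :
    ev q t u A a b = ev q t u (A.filter fun p => decide (p.1.2.1 = l)) a b := by
  induction A with
  | nil => simp
  | cons p A ih =>
    by_cases h : p.1.2.1 = l
    · rw [List.filter_cons_of_pos (by simpa using h), ev_cons, ev_cons, Matrix.add_apply, Matrix.add_apply, ih]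
    · rw [List.filter_cons_of_neg (by simpa using h), ev_cons, Matrix.add_apply, ih]
      simp only [mono]
      by_cases h' : p.1.1 < M.n ∧ p.1.2.1 < M.n
      · rw [dif_pos h', Matrix.smul_apply, Matrix.single_apply, if_neg, smul_zero, zero_add]
        rintro ⟨-, h1⟩
        apply h
        rw [← hb, ← h1, hq]
      · rw [dif_neg h']; simp

/-- A root element realising a prescribed row and fixing prescribed columns. -/
def Model.chkOp (r : ℕ) (C : ℤ) (i : ℕ) (R : PMat) (keep : List ℕ) : Bool :=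
  let A := M.elem r C 1 0
  eqP (A.filter fun p => decide (p.1.1 = i)) R &&
    keep.all fun l => eqP (A.filter fun p => decide (p.1.2.1 = l)) [((l, l, 0, 0), 1)]

/-- Some root element does it. -/
def Model.chkSearch (N : ℕ) (i : ℕ) (R : PMat) (keep : List ℕ) : Bool :=
  (List.range N).any fun r => M.chkOp r 1 i R keep || M.chkOp r (-1) i R keep

theorem Model.search_sound (hq : ∀ a, (q a).val = a.val) {E : Subgroup (GL (Fin n) F)} {N : ℕ}
    (hX : ∀ r, r < N → ∀ t : F, ∃ h ∈ E, (h : Matrix (Fin n) (Fin n) F) = M.X q r t)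
    {i : Fin n} {R : PMat} {keep : List ℕ} (h : M.chkSearch N i.val R keep = true) (c : F) :
    ∃ g ∈ E, (∀ v, act g v i = (ev q c 0 R *ᵥ v) i) ∧ ∀ l : Fin n, l.val ∈ keep → Fix g l := by
  simp only [Model.chkSearch, List.any_eq_true, List.mem_range, Bool.or_eq_true] at h
  obtain ⟨r, hr, hC⟩ := h
  obtain ⟨C, hC⟩ : ∃ C, M.chkOp r C i.val R keep = true := hC.elim (fun h => ⟨_, h⟩) fun h => ⟨_, h⟩
  simp only [Model.chkOp, Bool.and_eq_true, List.all_eq_true] at hC
  obtain ⟨g, hg, hgX⟩ := hX r hr ((C : F) * c)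
  have he : (g : Matrix (Fin n) (Fin n) F) = ev q c (0 : F) (M.elem r C 1 0) := by
    rw [hgX, M.ev_elem]; simp
  refine ⟨g, hg, fun v => ?_, fun l hl => ?_⟩
  · rw [act, he]
    simp only [Matrix.mulVec, dotProduct]
    refine Finset.sum_congr rfl fun b _ => ?_
    rw [row_filter M hq _ i.val i b rfl, ev_eq_of_eqP hC.1]
  · rw [Fix, act, he, Matrix.mulVec_single_one]
    funext a
    have hl' : l.val < M.n := by
      obtain ⟨l', rfl⟩ := q.surjective l
      rw [hq]; exact l'.2
    rw [Matrix.col_apply, col_filter M hq _ l.val a l rfl, ev_eq_of_eqP (hC.2 _ hl), ev_cons, ev_nil, add_zero,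
      mono, dif_pos ⟨hl', hl'⟩, Matrix.smul_apply, Matrix.single_apply]
    have hql : q ⟨l.val, hl'⟩ = l := Fin.ext (hq _)
    simp only [hql, Pi.single_apply, Int.cast_one, pow_zero, mul_one, one_smul]
    by_cases hal : a = l
    · subst hal; simp
    · simp [hal, Ne.symm hal]

theorem ev_two_row {q : Fin M.n ≃ Fin n} (hq : ∀ a, (q a).val = a.val) (i j : Fin n) (c : F) (v : Fin n → F) :
    (ev q c 0 [((i.val, i.val, 0, 0), 1), ((i.val, j.val, 1, 0), 1)] *ᵥ v) i = v i + c * v j := by
  have hlt : ∀ x : Fin n, x.val < M.n := fun x => by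
    obtain ⟨x', rfl⟩ := q.surjective x
    rw [hq]; exact x'.2
  have hqe : ∀ x : Fin n, q ⟨x.val, hlt x⟩ = x := fun x => Fin.ext (hq _)
  simp [ev_cons, mono, hlt i, hlt j, hqe, Matrix.add_mulVec, Matrix.single_mulVec]

/-- Conjugation by a diagonal matrix. -/
theorem Model.diag_conj (hq : ∀ a, (q a).val = a.val) {r : ℕ} {d : Fin n → F} {lam : F}
    (hd : ∀ e ∈ M.mv r, ∀ a b : Fin n, a.val = e.1 → b.val = e.2.1 → d a = lam ^ e.2.2.2 * d b) (t : F) :
    Matrix.diagonal d * M.X q r t = M.X q r (lam * t) * Matrix.diagonal d := by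
  rw [Model.X, Model.X, Model.elem, ev_append, ev_append, ev_oneP, ev_oneP, mul_add, add_mul, mul_one, one_mul]
  congr 1
  revert hd
  generalize M.mv r = l
  intro hd
  induction l with
  | nil => simp
  | cons e l ih =>
    simp only [List.map_cons, ev_cons, mul_add, add_mul, ih fun x hx => hd x (List.mem_cons_of_mem _ hx)]
    congr 1
    simp only [mono]
    by_cases h : e.1 < M.n ∧ e.2.1 < M.n
    · have hh := hd e List.mem_cons_self (q ⟨e.1, h.1⟩) (q ⟨e.2.1, h.2⟩) (hq _) (hq _)
      simp only [dif_pos h]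
      ext a b
      simp only [Matrix.diagonal_mul, Matrix.mul_diagonal, Matrix.smul_apply, Matrix.single_apply, smul_eq_mul]
      by_cases hab : q ⟨e.1, h.1⟩ = a ∧ q ⟨e.2.1, h.2⟩ = b
      · obtain ⟨rfl, rfl⟩ := hab
        simp only [and_self, if_true, hh, one_mul, mul_pow]
        ring
      · simp [hab]
    · simp [dif_neg h]

/-- The matrix of a permutation of coordinates. -/
def permP (n : ℕ) (p : ℕ → ℕ) : PMat := (List.range n).map fun a => ((a, p a, 0, 0), 1)

/-- Conjugation by a permutation sends every root element to a root element. -/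
def Model.chkPerm (N : ℕ) (p : ℕ → ℕ) : Bool :=
  eqP (mulP M.n (permP M.n p) (permP M.n p)) (oneP M.n) && (List.range N).all fun r => (List.range N).any fun s =>
    eqP (mulP M.n (mulP M.n (permP M.n p) (M.elem r 1 1 0)) (permP M.n p)) (M.elem s 1 1 0) ||
    eqP (mulP M.n (mulP M.n (permP M.n p) (M.elem r 1 1 0)) (permP M.n p)) (M.elem s (-1) 1 0)

theorem ev_permP (p : ℕ → ℕ) (t u : F) : ev q t u (permP M.n p) = ev q (0 : F) 0 (permP M.n p) := by
  rw [permP]
  induction List.range M.n with
  | nil => rfl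
  | cons e l ih =>
    rw [List.map_cons, ev_cons, ev_cons, ih]
    simp [mono]

theorem Model.perm_sq {N : ℕ} {p : ℕ → ℕ} (h : M.chkPerm N p = true) :
    ev q (0 : F) 0 (permP M.n p) * ev q (0 : F) 0 (permP M.n p) = 1 := by
  simp only [Model.chkPerm, Bool.and_eq_true] at h
  have h' := ev_eq_of_eqP (q := q) (t := (0 : F)) (u := 0) h.1
  rwa [ev_mulP, ev_oneP] at h'

theorem Model.perm_conj {N : ℕ} {p : ℕ → ℕ} (h : M.chkPerm N p = true) {r : ℕ} (hr : r < N) (t : F) :
    ∃ s, s < N ∧ ∃ u : F,
      ev q (0 : F) 0 (permP M.n p) * M.X q r t * ev q (0 : F) 0 (permP M.n p) = M.X q s u := by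
  simp only [Model.chkPerm, Bool.and_eq_true, List.all_eq_true, List.any_eq_true, List.mem_range,
    Bool.or_eq_true] at h
  obtain ⟨s, hs, hC⟩ := h.2 r hr
  obtain ⟨C, hC⟩ : ∃ C, eqP (mulP M.n (mulP M.n (permP M.n p) (M.elem r 1 1 0)) (permP M.n p))
      (M.elem s C 1 0) = true := hC.elim (fun h => ⟨_, h⟩) fun h => ⟨_, h⟩
  refine ⟨s, hs, (C : F) * t, ?_⟩
  have h' := ev_eq_of_eqP (q := q) (t := t) (u := (0 : F)) hC
  rw [ev_mulP, ev_mulP, ev_permP M q p t 0, M.ev_elem, M.ev_elem] at h'
  simpa using h'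

/-- A conjugation preserving the images of the generators preserves the range. -/
theorem conj_range {G : Type*} [Group G] {D : ChevalleyDatum} {K : Type*} [Field K]
    (φ : D.SteinbergGroup K →* G) (g : G)
    (h : ∀ r, r < D.nroots → ∀ t : K, g * φ (D.stGen K r t) * g⁻¹ ∈ φ.range) :
    ∀ x ∈ φ.range, g * x * g⁻¹ ∈ φ.range := by
  rintro _ ⟨x, rfl⟩
  suffices hx : x ∈ φ.range.comap ((MulAut.conj g).toMonoidHom.comp φ) by simpa using hx
  refine PresentedGroup.generated_by _ _ (fun j => ?_) x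
  rw [Subgroup.mem_comap]
  have he : (PresentedGroup.of j : D.SteinbergGroup K) = D.stGen K j.1.val j.2 := by
    simp [ChevalleyDatum.stGen, ChevalleyDatum.stX, PresentedGroup.of]
  simpa [he] using h j.1.val j.1.2 j.2

end Cfsg.Agent.Lib.Classical.RootModel
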