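import Mathlib

/-!
Sparse matrices over `ℤ[t,u]`, for verifying identities of root elements by evaluation in the kernel.
-/

set_option autoImplicit false

namespace Cfsg.Agent.Lib.Classical.RootModel

/-- An entry `((row, column, degree in t, degree in u), coefficient)`. -/
abbrev PEntry := (ℕ × ℕ × ℕ × ℕ) × ℤ

/-- A sparse matrix over `ℤ[t,u]`: the sum of its entries. -/
abbrev PMat := List PEntry

variable {F : Type*} [Field F] {ι : Type} [DecidableEq ι] {n : ℕ}

/-- The monomial matrix of a key. -/
def mono (q : Fin n ≃ ι) (t u : F) (k : ℕ × ℕ × ℕ × ℕ) : Matrix ι ι F :=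
  if h : k.1 < n ∧ k.2.1 < n then
    Matrix.single (q ⟨k.1, h.1⟩) (q ⟨k.2.1, h.2⟩) (t ^ k.2.2.1 * u ^ k.2.2.2)
  else 0

/-- Evaluation. -/
def ev (q : Fin n ≃ ι) (t u : F) (A : PMat) : Matrix ι ι F :=
  (A.map fun p => (p.2 : F) • mono q t u p.1).sum

variable {q : Fin n ≃ ι} {t u : F}

@[simp] theorem ev_nil : ev q t u [] = 0 := rfl

@[simp] theorem ev_cons (p : PEntry) (A : PMat) : ev q t u (p :: A) = (p.2 : F) • mono q t u p.1 + ev q t u A := by
  simp [ev]

theorem ev_append (A B : PMat) : ev q t u (A ++ B) = ev q t u A + ev q t u B := by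
  induction A with
  | nil => simp
  | cons p A ih => simp [ih, add_assoc]

/-- Add an entry, merging equal keys. -/
def ins (p : PEntry) : PMat → PMat
  | [] => [p]
  | x :: l => if x.1 = p.1 then (x.1, x.2 + p.2) :: l else x :: ins p l

theorem ev_ins (p : PEntry) (A : PMat) : ev q t u (ins p A) = (p.2 : F) • mono q t u p.1 + ev q t u A := by
  induction A with
  | nil => simp [ins]
  | cons x A ih =>
    rw [ins]
    split_ifs with h
    · simp only [ev_cons, h, Int.cast_add, add_smul]
      abel
    · simp only [ev_cons, ih]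
      abel

/-- Merge equal keys. -/
def norm (A : PMat) : PMat := A.foldr ins []

theorem ev_norm (A : PMat) : ev q t u (norm A) = ev q t u A := by
  induction A with
  | nil => rfl
  | cons p A ih => rw [show norm (p :: A) = ins p (norm A) from rfl, ev_ins, ih, ev_cons]

/-- Product of two entries. -/
def mulEntry (a b : PEntry) : PEntry :=
  ((a.1.1, b.1.2.1, a.1.2.2.1 + b.1.2.2.1, a.1.2.2.2 + b.1.2.2.2), a.2 * b.2)

/-- Product of an entry with a matrix. -/
def mulRow (n : ℕ) (a : PEntry) : PMat → PMat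
  | [] => []
  | b :: B => if a.1.2.1 = b.1.1 ∧ a.1.2.1 < n then mulEntry a b :: mulRow n a B else mulRow n a B

variable [Fintype ι]

theorem ev_mulRow (a : PEntry) (B : PMat) :
    ev q t u (mulRow n a B) = ((a.2 : F) • mono q t u a.1) * ev q t u B := by
  induction B with
  | nil => simp [mulRow]
  | cons b B ih =>
    rw [mulRow, ev_cons, mul_add, ← ih]
    by_cases h : a.1.2.1 = b.1.1 ∧ a.1.2.1 < n
    · rw [if_pos h, ev_cons]
      congr 1
      obtain ⟨⟨a1, a2, a3, a4⟩, ac⟩ := a
      obtain ⟨⟨b1, b2, b3, b4⟩, bc⟩ := b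
      simp only at h
      obtain ⟨rfl, hn⟩ := h
      simp only [mulEntry, mono, Int.cast_mul]
      by_cases h1 : a1 < n <;> by_cases h2 : b2 < n <;>
        simp [h1, h2, hn, Matrix.smul_single, Matrix.single_mul_single_same, pow_add] <;>
        ring_nf
    · rw [if_neg h]
      obtain ⟨⟨a1, a2, a3, a4⟩, ac⟩ := a
      obtain ⟨⟨b1, b2, b3, b4⟩, bc⟩ := b
      have h0 : ((ac : F) • mono q t u (a1, a2, a3, a4)) * ((bc : F) • mono q t u (b1, b2, b3, b4)) = 0 := by
        simp only [mono]
        by_cases h1 : a1 < n ∧ a2 < n <;> by_cases h2 : b1 < n ∧ b2 < n <;> simp [h1, h2, Matrix.smul_single]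
        rw [Matrix.single_mul_single_of_ne]
        intro e
        simp only [EmbeddingLike.apply_eq_iff_eq, Fin.mk.injEq] at e
        exact h ⟨e, h1.2⟩
      rw [h0, zero_add]

/-- Product. -/
def mulP (n : ℕ) (A B : PMat) : PMat := norm (A.flatMap fun a => mulRow n a B)

theorem ev_mulP (A B : PMat) : ev q t u (mulP n A B) = ev q t u A * ev q t u B := by
  rw [mulP, ev_norm]
  induction A with
  | nil => simp
  | cons a A ih => rw [List.flatMap_cons, ev_append, ih, ev_mulRow, ev_cons, add_mul]

/-- The coefficient at a key. -/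
def coefP (A : PMat) (k : ℕ × ℕ × ℕ × ℕ) : ℤ := (A.map fun p => if p.1 = k then p.2 else 0).sum

omit [Fintype ι] in
theorem ev_eq_sum (A : PMat) (S : Finset (ℕ × ℕ × ℕ × ℕ)) (hS : ∀ p ∈ A, p.1 ∈ S) :
    ev q t u A = ∑ k ∈ S, (coefP A k : F) • mono q t u k := by
  induction A with
  | nil => simp [coefP]
  | cons p A ih =>
    rw [ev_cons, ih fun x hx => hS x (List.mem_cons_of_mem _ hx)]
    have h : ∀ k, coefP (p :: A) k = (if p.1 = k then p.2 else 0) + coefP A k := fun k => by simp [coefP]
    simp only [h, Int.cast_add, add_smul, Finset.sum_add_distrib]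
    congr 1
    rw [Finset.sum_eq_single p.1]
    · rw [if_pos rfl]
    · intro k _ hk
      rw [if_neg (Ne.symm hk), Int.cast_zero, zero_smul]
    · exact fun hk => absurd (hS p List.mem_cons_self) hk

/-- Equality of all coefficients. -/
def eqP (A B : PMat) : Bool := (A ++ B).all fun p => decide (coefP A p.1 = coefP B p.1)

omit [Fintype ι] in
theorem ev_eq_of_eqP {A B : PMat} (h : eqP A B = true) : ev q t u A = ev q t u B := by
  rw [ev_eq_sum A ((A ++ B).map Prod.fst).toFinset (fun p hp => by simp; exact Or.inl ⟨p.2, hp⟩),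
    ev_eq_sum B ((A ++ B).map Prod.fst).toFinset (fun p hp => by simp; exact Or.inr ⟨p.2, hp⟩)]
  refine Finset.sum_congr rfl fun k hk => ?_
  simp only [List.mem_toFinset, List.mem_map] at hk
  obtain ⟨p, hp, rfl⟩ := hk
  have := List.all_eq_true.mp h p hp
  rw [decide_eq_true_eq] at this
  rw [this]

/-- The identity matrix. -/
def oneP (n : ℕ) : PMat := (List.range n).map fun a => ((a, a, 0, 0), 1)

omit [Fintype ι] in
theorem ev_oneP : ev q t u (oneP n) = 1 := by
  refine Matrix.ext fun x y => ?_
  have : ∀ l : List ℕ, ev q t u (l.map fun a => (((a, a, 0, 0), 1) : PEntry)) x y =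
      (l.map fun a => (mono q t u (a, a, 0, 0)) x y).sum := by
    intro l
    induction l with
    | nil => simp
    | cons a l ih => simp [ih]
  rw [oneP, this]
  obtain ⟨a, rfl⟩ := q.surjective x
  obtain ⟨b, rfl⟩ := q.surjective y
  rw [← List.sum_toFinset _ List.nodup_range, Finset.sum_eq_single (a : ℕ)]
  · simp [mono, Matrix.single_apply, Matrix.one_apply]
  · intro c _ hc
    simp only [mono]
    by_cases h : c < n
    · rw [dif_pos ⟨h, h⟩, Matrix.single_apply, if_neg]
      rintro ⟨h1, -⟩
      exact hc (congrArg Fin.val (q.injective h1))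
    · simp [h]
  · simp

end Cfsg.Agent.Lib.Classical.RootModel
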